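import Groth.Agent.S0124
import Groth.Agent.H18Et.Flasque
import Groth.Agent.H18Et.Cons.TorsionColim
import Mathlib.CategoryTheory.Abelian.Injective.Ext
import Mathlib.CategoryTheory.Abelian.RightDerived

/-!
# Higher direct images of torsion sheaves are torsion
-/

set_option backward.isDefEq.respectTransparency false
set_option backward.isDefEq.respectTransparency.types false

universe u

open CategoryTheory CategoryTheory.Limits AlgebraicGeometry Opposite

namespace Groth.Agent.H18Et.Coh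

open scoped Groth.Agent.H18Et

variable {X Y : Scheme.{u}}

/-- Torsion is a condition on stalks. -/
theorem isTorsion_iff_stalk (F : EtCoh.Ab X) :
    EtCoh.IsTorsion F ↔ ∀ (Ω : Type u) [Field Ω] [IsSepClosed Ω] (ξ : Spec (CommRingCat.of Ω) ⟶ X)
      (p : (EtCoh.stalk ξ).obj F), IsOfFinAddOrder p := by
  refine ⟨fun h Ω _ _ ξ p => ?_, fun h U s x => ?_⟩
  · obtain ⟨U, z, s, rfl⟩ := germ_surjective ξ F p
    obtain ⟨V, g, ⟨v, hv⟩, hfin⟩ := h U s (ptOf z)
    obtain ⟨y, hy⟩ := exists_fiber_lift g z v hv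
    have h1 : germ ξ F V y (F.obj.map g.op s) = germ ξ F U z s := by
      rw [← hy]
      exact (Scheme.pointSmallEtale ξ).toPresheafFiber_w_apply g y F.obj s
    rw [← h1]
    exact AddMonoidHom.isOfFinAddOrder _ hfin
  · obtain ⟨z, hz⟩ := exists_fiber_over x (geomPt (U.hom.base x)) (geomPt_base _)
    obtain ⟨m, hm, hmz⟩ := (h _ _ (germ (geomPt (U.hom.base x)) F U z s)).exists_nsmul_eq_zero
    obtain ⟨V, g, y, hy, he⟩ := (germ_eq_iff _ F U z (m • s) 0).1
      ((map_nsmul _ m s).trans (hmz.trans (map_zero _).symm))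
    rw [map_nsmul, map_zero] at he
    exact ⟨V, g, ⟨ptOf y, (ptOf_map g y).trans ((congrArg ptOf hy).trans hz)⟩,
      isOfFinAddOrder_iff_nsmul_eq_zero.2 ⟨m, hm, he⟩⟩

theorem isTorsion_pull (f : Y ⟶ X) (F : EtCoh.Ab X) (hF : EtCoh.IsTorsion F) :
    EtCoh.IsTorsion ((EtCoh.pull f).obj F) := by
  rw [isTorsion_iff_stalk] at hF ⊢
  intro Ω _ _ ξ p
  let e : (EtCoh.stalk ξ).obj ((EtCoh.pull f).obj F) ≅ (EtCoh.stalk (ξ ≫ f)).obj F :=
    (stalkPullIso f ξ).app F
  obtain ⟨q, rfl⟩ : ∃ q, e.inv q = p := ⟨e.hom p, ConcreteCategory.congr_hom e.hom_inv_id p⟩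
  exact AddMonoidHom.isOfFinAddOrder e.inv.hom (hF Ω (ξ ≫ f) q)

theorem isTorsion_of_iso {F G : EtCoh.Ab X} (e : F ≅ G) (hF : EtCoh.IsTorsion F) : EtCoh.IsTorsion G := by
  rw [isTorsion_iff_stalk] at hF ⊢
  intro Ω _ _ ξ p
  obtain ⟨q, rfl⟩ : ∃ q, ((EtCoh.stalk ξ).mapIso e).hom q = p :=
    ⟨((EtCoh.stalk ξ).mapIso e).inv p, ConcreteCategory.congr_hom ((EtCoh.stalk ξ).mapIso e).inv_hom_id p⟩
  exact AddMonoidHom.isOfFinAddOrder _ (hF Ω ξ q)

/-- A section of a torsion sheaf over a quasi-compact object has finite order. -/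
theorem isOfFinAddOrder_sect {F : EtCoh.Ab X} (hF : EtCoh.IsTorsion F) (U : X.Etale) [CompactSpace U.left]
    (s : EtCoh.sect F U) : IsOfFinAddOrder s := by
  choose V g hv hfin using hF U s
  choose m hm hms using fun x => (hfin x).exists_nsmul_eq_zero
  obtain ⟨t, ht⟩ := (isCompact_univ (X := U.left)).elim_finite_subcover
    (fun x => Set.range (g x).left.base)
    (fun x => haveI := etale_left (g x); (g x).left.isOpenMap.isOpen_range)
    fun x _ => Set.mem_iUnion.2 ⟨x, hv x⟩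
  refine isOfFinAddOrder_iff_nsmul_eq_zero.2 ⟨∏ x ∈ t, m x, Finset.prod_pos fun x _ => hm x, ?_⟩
  refine sect_ext _ _ fun Ω _ _ ξ z => ?_
  obtain ⟨x, hx, v, hxv⟩ := Set.mem_iUnion₂.1 (ht (Set.mem_univ (ptOf z)))
  obtain ⟨y, hy⟩ := exists_fiber_lift (g x) z v hxv
  obtain ⟨r, hr⟩ := Finset.dvd_prod_of_mem m hx
  rw [← hy]
  refine ((Scheme.pointSmallEtale ξ).toPresheafFiber_w_apply (g x) y F.obj _).symm.trans (Eq.trans ?_
    ((Scheme.pointSmallEtale ξ).toPresheafFiber_w_apply (g x) y F.obj (0 : EtCoh.sect F U)))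
  refine congrArg _ ?_
  rw [map_nsmul, map_zero, hr, mul_comm, mul_nsmul', hms, nsmul_zero]

/-- Classes in `Ext (free W) F` have finite order, for `W` qcqs and `F` torsion. -/
theorem isOfFinAddOrder_ext {F : EtCoh.Ab X} (hF : EtCoh.IsTorsion F) (W : X.Etale) [CompactSpace W.left]
    [QuasiSeparatedSpace W.left] {n : ℕ} (x : Abelian.Ext ((FreeSheaf.free X).obj W) F n) :
    IsOfFinAddOrder x := by
  haveI : Etale W.hom := W.prop
  haveI := pull_preservesFiniteLimits W.hom
  let y : Abelian.Ext ((FreeSheaf.free X).obj (FreeSheaf.obj W.hom)) F n :=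
    (Abelian.Ext.mk₀ ((FreeSheaf.free X).map (Flasque.objIso W).hom)).comp x (zero_add n)
  have hxy : (Abelian.Ext.mk₀ ((FreeSheaf.free X).map (Flasque.objIso W).inv)).comp y (zero_add n) = x := by
    rw [Abelian.Ext.mk₀_comp_mk₀_assoc, ← Functor.map_comp, Iso.inv_hom_id, CategoryTheory.Functor.map_id,
      Abelian.Ext.mk₀_id_comp]
  obtain ⟨m, hm, hmy⟩ := (Groth.Agent.S0124.result W.left _ (isTorsion_pull W.hom F hF) n
    (FreeSheaf.phi W.hom F n y)).exists_nsmul_eq_zero
  have hy0 : m • y = 0 := (FreeSheaf.phi_bijective W.hom F n).1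
    ((map_nsmul _ m y).trans (hmy.trans (map_zero _).symm))
  refine isOfFinAddOrder_iff_nsmul_eq_zero.2 ⟨m, hm, ?_⟩
  rw [← hxy]
  let φ : Abelian.Ext ((FreeSheaf.free X).obj (FreeSheaf.obj W.hom)) F n →+
      Abelian.Ext ((FreeSheaf.free X).obj W) F n :=
    AddMonoidHom.mk' (fun z => (Abelian.Ext.mk₀ ((FreeSheaf.free X).map (Flasque.objIso W).inv)).comp z (zero_add n))
      (fun a b => Abelian.Ext.comp_add _ a b _)
  exact (map_nsmul φ m y).symm.trans ((congrArg φ hy0).trans (map_zero φ))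

theorem nsmul_extMk {C : Type*} [Category C] [Abelian C] [HasExt C] {A B : C} (R : InjectiveResolution B)
    {n : ℕ} (φ : A ⟶ R.cocomplex.X n) (k : ℕ) (hk : n + 1 = k) (hφ : φ ≫ R.cocomplex.d n k = 0) :
    ∀ m : ℕ, m • R.extMk φ k hk hφ =
      R.extMk (m • φ) k hk (by rw [Preadditive.nsmul_comp, hφ, nsmul_zero]) := by
  intro m
  induction m with
  | zero => simp only [zero_nsmul]; exact (R.extMk_zero k hk).symm
  | succ m ih =>
    simp only [succ_nsmul]
    rw [ih, InjectiveResolution.add_extMk]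

theorem qcqs_bc (f : X ⟶ Y) [QuasiCompact f] [QuasiSeparated f] (P : Y.Etale) [IsAffine P.left] :
    CompactSpace ((EtCoh.bc f).obj P).left ∧ QuasiSeparatedSpace ((EtCoh.bc f).obj P).left :=
  haveI : CompactSpace ↥((𝟭 Scheme).obj P.left) := inferInstanceAs (CompactSpace P.left)
  haveI : QuasiSeparatedSpace ↥((𝟭 Scheme).obj P.left) := inferInstanceAs (QuasiSeparatedSpace P.left)
  ⟨QuasiCompact.compactSpace_of_compactSpace (pullback.fst P.hom f),
    quasiSeparatedSpace_of_quasiSeparated (pullback.fst P.hom f)⟩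

/-- Higher direct images of torsion sheaves along qcqs morphisms are torsion. -/
theorem isTorsion_Rpush (f : X ⟶ Y) [QuasiCompact f] [QuasiSeparated f] [EtCoh.BCCont f] (F : EtCoh.Ab X)
    (hF : EtCoh.IsTorsion F) : ∀ n : ℕ, EtCoh.IsTorsion ((EtCoh.Rpush f n).obj F) := by
  intro n
  let R := injectiveResolution F
  let K := ((EtCoh.push f).mapHomologicalComplex _).obj R.cocomplex
  refine isTorsion_of_iso (R.isoRightDerivedObj (EtCoh.push f) n).symm ?_
  intro U s x
  change EtCoh.sect (K.homology n) U at s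
  haveI : CategoryTheory.Sheaf.IsLocallySurjective (K.homologyπ n) :=
    (Sheaf.isLocallySurjective_iff_epi' _ (K.homologyπ n)).2 inferInstance
  obtain ⟨V, g, v, ⟨c, hc⟩, hv⟩ := Subterminal.exists_mem_of_cover
    (Presheaf.imageSieve_mem _ (K.homologyπ n).hom s) x
  obtain ⟨z, hz⟩ := exists_fiber_over v (geomPt (V.hom.base v)) (geomPt_base _)
  obtain ⟨P, hP, i, z', hz'⟩ := Cons.exists_affine_nbhd z
  haveI := hP
  refine ⟨P, i ≫ g, ⟨ptOf z', ?_⟩, ?_⟩
  · refine (congrArg g.left.base ?_).trans hv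
    exact (ptOf_map i z').trans ((congrArg ptOf hz').trans hz)
  let W : X.Etale := (EtCoh.bc f).obj P
  haveI : CompactSpace W.left := (qcqs_bc f P).1
  haveI : QuasiSeparatedSpace W.left := (qcqs_bc f P).2
  let c' : EtCoh.sect (K.cycles n) P := (K.cycles n).obj.map i.op c
  have hc' : (K.homologyπ n).hom.app (op P) c' = (K.homology n).obj.map (i ≫ g).op s := by
    refine (NatTrans.naturality_apply (K.homologyπ n).hom i.op c).trans ((congrArg _ hc).trans ?_)
    rw [op_comp, Functor.map_comp_apply]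
  let G0 : EtCoh.Ab Y ⥤ AddCommGrpCat.{u + 1} :=
    sheafToPresheaf Y.smallEtaleTopology AddCommGrpCat.{u + 1} ⋙ (evaluation _ _).obj (op P)
  have hinj : Function.Injective (G0.map (K.iCycles n)) :=
    (AddCommGrpCat.mono_iff_injective _).1 inferInstance
  let xs : EtCoh.sect (R.cocomplex.X n) W := G0.map (K.iCycles n) c'
  suffices ∃ m : ℕ, 0 < m ∧ G0.map (K.homologyπ n) (m • c') = 0 by
    obtain ⟨m, hm, hm0⟩ := this
    refine isOfFinAddOrder_iff_nsmul_eq_zero.2 ⟨m, hm, ?_⟩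
    change m • (K.homology n).obj.map (i ≫ g).op s = 0
    rw [← hc']
    exact (map_nsmul _ m c').symm.trans hm0
  cases n with
  | zero =>
    obtain ⟨m, hm, hmx⟩ : ∃ m : ℕ, 0 < m ∧ m • xs = 0 := by
      have hdx : (R.cocomplex.d 0 1).hom.app (op W) xs = 0 :=
        ConcreteCategory.congr_hom (congrArg (fun φ : K.cycles 0 ⟶ K.X 1 => φ.hom.app (op P))
          (K.iCycles_d 0 1)) c'
      have hex : ∃ t : EtCoh.sect F W, (R.ι.f 0).hom.app (op W) t = xs := by
        let S := ShortComplex.mk (R.ι.f 0) (R.cocomplex.d 0 1) R.ι_f_zero_comp_complex_d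
        have hS : S.Exact := R.exact₀
        haveI : Mono S.f := inferInstanceAs (Mono (R.ι.f 0))
        exact (ShortComplex.ab_exact_iff _).1 (hS.map_of_mono_of_preservesKernel
          (sheafToPresheaf X.smallEtaleTopology AddCommGrpCat.{u + 1} ⋙ (evaluation _ _).obj (op W))
          inferInstance inferInstance) xs hdx
      obtain ⟨t, ht⟩ := hex
      obtain ⟨m, hm, hmt⟩ := (isOfFinAddOrder_sect hF W t).exists_nsmul_eq_zero
      exact ⟨m, hm, by rw [← ht, ← map_nsmul, hmt, map_zero]⟩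
    have h0 : m • c' = 0 := hinj ((map_nsmul _ m c').trans (hmx.trans (map_zero _).symm))
    exact ⟨m, hm, (congrArg _ h0).trans (map_zero _)⟩
  | succ p =>
    let φ := (FreeSheaf.homEquiv W (R.cocomplex.X (p + 1))).symm xs
    have hφ : φ ≫ R.cocomplex.d (p + 1) (p + 2) = 0 := by
      apply (FreeSheaf.homEquiv W _).injective
      rw [FreeSheaf.homEquiv_comp, Equiv.apply_symm_apply]
      refine (ConcreteCategory.congr_hom (congrArg (fun φ : K.cycles (p + 1) ⟶ K.X (p + 2) => φ.hom.app (op P))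
        (K.iCycles_d (p + 1) (p + 2))) c').trans ?_
      refine Eq.trans ?_ (congrArg (FreeSheaf.homEquiv W (R.cocomplex.X (p + 2))) (zero_comp
        (X := (FreeSheaf.free X).obj W) (f := (0 : R.cocomplex.X (p + 2) ⟶ R.cocomplex.X (p + 2)))))
      rw [FreeSheaf.homEquiv_comp]
      rfl
    obtain ⟨m, hm, hm0⟩ := (isOfFinAddOrder_ext hF W (R.extMk φ (p + 2) rfl hφ)).exists_nsmul_eq_zero
    rw [nsmul_extMk, R.extMk_eq_zero_iff (m • φ) (p + 2) rfl _ p rfl] at hm0
    obtain ⟨b, hb⟩ := hm0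
    refine ⟨m, hm, ?_⟩
    have key : ∀ k : ℕ, FreeSheaf.homEquiv W _ (k • φ) = k • xs := by
      intro k
      induction k with
      | zero =>
        rw [zero_nsmul, zero_nsmul, ← zero_comp (f := (0 : R.cocomplex.X (p + 1) ⟶ R.cocomplex.X (p + 1))),
          FreeSheaf.homEquiv_comp]
        rfl
      | succ k ih =>
        have e : k • φ + φ = φ ≫ ((k : ℕ) • 𝟙 _ + 𝟙 _) := by
          rw [Preadditive.comp_add, Preadditive.comp_nsmul, Category.comp_id]
        rw [succ_nsmul, succ_nsmul, e, FreeSheaf.homEquiv_comp, Equiv.apply_symm_apply, ← ih]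
        have e2 : k • φ = φ ≫ ((k : ℕ) • 𝟙 _) := by rw [Preadditive.comp_nsmul, Category.comp_id]
        rw [e2, FreeSheaf.homEquiv_comp, Equiv.apply_symm_apply]
        rfl
    let t : EtCoh.sect (R.cocomplex.X p) W := FreeSheaf.homEquiv W _ b
    have ht : (R.cocomplex.d p (p + 1)).hom.app (op W) t = m • xs := by
      rw [← key, ← hb, FreeSheaf.homEquiv_comp]
    have hcy : G0.map (K.toCycles p (p + 1)) t = m • c' := hinj (by
      refine (ConcreteCategory.congr_hom ((G0.map_comp _ _).symm.trans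
        (congrArg G0.map (K.toCycles_i p (p + 1)))) t).trans (ht.trans ?_)
      exact (map_nsmul (G0.map (K.iCycles (p + 1))).hom m c').symm)
    rw [← hcy]
    have h4 := congrArg G0.map (K.toCycles_comp_homologyπ p (p + 1))
    rw [Functor.map_comp, Functor.map_zero] at h4
    exact ConcreteCategory.congr_hom h4 t

end Groth.Agent.H18Et.Coh
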