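import Groth.Agent.H18Et.Coh.QCAcyclic
import Mathlib.CategoryTheory.Abelian.GrothendieckCategory.EnoughInjectives
import Mathlib.CategoryTheory.Abelian.GrothendieckAxioms.Basic
import Mathlib.Algebra.Homology.DerivedCategory.Ext.ExactSequences

/-!
# Etale cohomology of a qcqs scheme commutes with filtered colimits
-/

set_option backward.isDefEq.respectTransparency false
set_option backward.isDefEq.respectTransparency.types false

universe u w

open CategoryTheory CategoryTheory.Limits AlgebraicGeometry Opposite MorphismProperty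

namespace Groth.Agent.H18Et.CohColim

open scoped Groth.Agent.H18Et

scoped instance ab5_ab (X : Scheme.{u}) : AB5OfSize.{u, u} (EtCoh.Ab X) :=
  AB5OfSize_of_univLE.{u, u, u + 1, u + 1} _

section Injective

open ZeroObject IsGrothendieckAbelian

variable {C : Type*} [Category C] [Abelian C] [IsGrothendieckAbelian.{w} C]

variable (C) in
/-- `X ↦ (X ⟶ 0)`. -/
noncomputable def toArrow : C ⥤ Arrow C where
  obj X := Arrow.mk (0 : X ⟶ (0 : C))
  map f := Arrow.homMk f (𝟙 _) (by simp)
  map_id X := by ext <;> simp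
  map_comp f g := by ext <;> simp

variable (C) in
/-- A functorial injective object. -/
noncomputable def inj : C ⥤ C :=
  toArrow C ⋙ (functorialFactorizationData (monomorphisms C) (monomorphisms C).rlp).Z

variable (C) in
/-- The functorial embedding into an injective object. -/
noncomputable def toInj : 𝟭 C ⟶ inj C where
  app X := (functorialFactorizationData (monomorphisms C) (monomorphisms C).rlp).i.app ((toArrow C).obj X)
  naturality X Y f := (functorialFactorizationData (monomorphisms C) (monomorphisms C).rlp).i.naturality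
    ((toArrow C).map f)

instance mono_toInj (X : C) : Mono ((toInj C).app X) :=
  (functorialFactorizationData (monomorphisms C) (monomorphisms C).rlp).hi _

instance injective_inj (X : C) : Injective ((inj C).obj X) :=
  inferInstanceAs (Injective (monoMapFactorizationDataRlp (0 : X ⟶ 0)).Z)

end Injective

variable {X : Scheme.{u}} [CompactSpace X] [QuasiSeparatedSpace X] {J : Type w} [SmallCategory J]
  [IsFiltered J] [PreservesColimitsOfShape J (CategoryTheory.forget AddCommGrpCat.{u + 1})]
  [HasColimitsOfShape J (EtCoh.Ab X)]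

omit [CompactSpace X] [QuasiSeparatedSpace X] in
theorem H_map_comp {F G K : EtCoh.Ab X} (φ : F ⟶ G) (ψ : G ⟶ K) {n : ℕ} (x : EtCoh.H X F n) :
    Sheaf.H.map (φ ≫ ψ) n x = Sheaf.H.map ψ n (Sheaf.H.map φ n x) :=
  Eq.symm <| by
    rw [Sheaf.H.map_apply, Sheaf.H.map_apply, Sheaf.H.map_apply,
      Abelian.Ext.comp_assoc_of_second_deg_zero, Abelian.Ext.mk₀_comp_mk₀]

/-- Every class of the colimit comes from a stage. -/
def HSurj (n : ℕ) (D : J ⥤ EtCoh.Ab X) : Prop :=
  ∀ x : EtCoh.H X (colimit D) n, ∃ (j : J) (y : EtCoh.H X (D.obj j) n), Sheaf.H.map (colimit.ι D j) n y = x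

/-- Every class killed in the colimit is killed at a stage. -/
def HInj (n : ℕ) (D : J ⥤ EtCoh.Ab X) : Prop :=
  ∀ (j : J) (y : EtCoh.H X (D.obj j) n), Sheaf.H.map (colimit.ι D j) n y = 0 →
    ∃ (k : J) (f : j ⟶ k), Sheaf.H.map (D.map f) n y = 0

theorem hSurj_hInj_zero (D : J ⥤ EtCoh.Ab X) : HSurj 0 D ∧ HInj 0 D := by
  let hT := EtCore.topIsTerminal X
  haveI : CompactSpace (EtCoh.top X).left := ‹CompactSpace X›
  haveI : QuasiSeparatedSpace (EtCoh.top X).left := ‹QuasiSeparatedSpace X›
  refine ⟨fun x => ?_, fun j y hy => ?_⟩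
  · obtain ⟨j, t, ht⟩ := Cons.sect_colim_surj (colimit.isColimit D) (Sheaf.H.equiv₀ (colimit D) hT x)
    refine ⟨j, (Sheaf.H.equiv₀ _ hT).symm t, ?_⟩
    rw [Sheaf.H.equiv₀_symm_naturality]
    exact (congrArg _ ht).trans ((Sheaf.H.equiv₀ _ hT).symm_apply_apply x)
  · obtain ⟨k, f, hf⟩ := Cons.sect_colim_inj (colimit.isColimit D) (j := j)
      (Sheaf.H.equiv₀ (D.obj j) hT y)
      ((Sheaf.H.equiv₀_naturality hT (colimit.ι D j) y).trans ((congrArg _ hy).trans (map_zero _)))
    refine ⟨k, f, (Sheaf.H.equiv₀ _ hT).injective ?_⟩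
    exact ((Sheaf.H.equiv₀_naturality hT (D.map f) y).symm.trans hf).trans (map_zero _).symm

omit [CompactSpace X] [QuasiSeparatedSpace X] in
theorem HInj.eq_stage {n : ℕ} {D : J ⥤ EtCoh.Ab X} (h : HInj n D) {i : J} (a b : EtCoh.H X (D.obj i) n)
    (he : Sheaf.H.map (colimit.ι D i) n a = Sheaf.H.map (colimit.ι D i) n b) :
    ∃ (k : J) (f : i ⟶ k), Sheaf.H.map (D.map f) n a = Sheaf.H.map (D.map f) n b := by
  obtain ⟨k, f, hf⟩ := h i (a - b) ((map_sub _ _ _).trans (sub_eq_zero.2 he))
  exact ⟨k, f, sub_eq_zero.1 ((map_sub _ _ _).symm.trans hf)⟩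

variable [HasExactColimitsOfShape J (EtCoh.Ab X)]

/-- Cohomology of a qcqs scheme commutes with filtered colimits, elementwise. -/
theorem hSurj_hInj : ∀ (n : ℕ) (D : J ⥤ EtCoh.Ab X), HSurj n D ∧ HInj n D := by
  intro n
  induction n with
  | zero => exact hSurj_hInj_zero
  | succ n ih =>
    intro D
    let E : J ⥤ EtCoh.Ab X := D ⋙ inj (EtCoh.Ab X)
    let η : D ⟶ E := Functor.whiskerLeft D (toInj (EtCoh.Ab X))
    haveI hEinj : ∀ j, Injective (E.obj j) := fun j => injective_inj (D.obj j)
    haveI : ∀ j, Mono (η.app j) := fun j => mono_toInj (D.obj j)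
    haveI : Mono η := NatTrans.mono_of_mono_app η
    let S := ShortComplex.mk η (cokernel.π η) (cokernel.condition η)
    have hS : S.ShortExact := { exact := ShortComplex.exact_of_g_is_cokernel _ (cokernelIsCokernel _) }
    let Q : J ⥤ EtCoh.Ab X := S.X₃
    have hj : ∀ j, (S.map ((evaluation J (EtCoh.Ab X)).obj j)).ShortExact := fun j => hS.map_of_exact _
    have hC : (S.map colim).ShortExact := hS.map_of_exact _
    let Sj : J → ShortComplex (EtCoh.Ab X) := fun j => S.map ((evaluation J (EtCoh.Ab X)).obj j)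
    let m : ∀ j, Sj j ⟶ S.map colim := fun j => ShortComplex.homMk (colimit.ι D j) (colimit.ι E j)
      (colimit.ι Q j) (colimit.ι_map η j) (colimit.ι_map (cokernel.π η) j)
    let t : ∀ {i j : J}, (i ⟶ j) → (Sj i ⟶ Sj j) := fun f => ShortComplex.homMk (D.map f) (E.map f) (Q.map f)
      (η.naturality f) ((cokernel.π η).naturality f)
    let δ : ∀ {T : ShortComplex (EtCoh.Ab X)}, T.ShortExact → EtCoh.H X T.X₃ n → EtCoh.H X T.X₁ (n + 1) :=
      fun h z => Abelian.Ext.comp z h.extClass rfl
    have hnat : ∀ {T T' : ShortComplex (EtCoh.Ab X)} (h : T.ShortExact) (h' : T'.ShortExact) (φ : T ⟶ T')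
        (z : EtCoh.H X T.X₃ n), Sheaf.H.map φ.τ₁ (n + 1) (δ h z) = δ h' (Sheaf.H.map φ.τ₃ n z) := by
      intro T T' h h' φ z
      change (Abelian.Ext.comp z h.extClass rfl).comp (Abelian.Ext.mk₀ φ.τ₁) (add_zero _) =
        Abelian.Ext.comp (Abelian.Ext.comp z (Abelian.Ext.mk₀ φ.τ₃) (add_zero n)) h'.extClass rfl
      rw [Abelian.Ext.comp_assoc_of_third_deg_zero, ShortComplex.ShortExact.extClass_naturality h h' φ,
        Abelian.Ext.comp_assoc_of_second_deg_zero]
    haveI : ∀ j, Subsingleton (EtCoh.H X (E.obj j) (n + 1)) := fun j =>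
      subsingleton_of_forall_eq 0 fun e =>
        haveI := hEinj j
        Abelian.Ext.eq_zero_of_injective e
    haveI : Subsingleton (EtCoh.H X (colimit E) (n + 1)) := QCAc.subsingleton_H n _
      (QCAc.isQCAcyclic_colimit (colimit.isColimit E) fun j =>
        @QCAc.isQCAcyclic_of_injective X (E.obj j) (hEinj j))
    refine ⟨fun x => ?_, fun j a ha => ?_⟩
    · obtain ⟨y, rfl⟩ := Abelian.Ext.covariant_sequence_exact₁ _ hC x
        (Subsingleton.elim (α := EtCoh.H X (colimit E) (n + 1)) _ _) rfl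
      obtain ⟨j, z, hz⟩ := (ih Q).1 y
      refine ⟨j, δ (hj j) z, ?_⟩
      exact (hnat (hj j) hC (m j) z).trans (congrArg (δ hC) hz)
    · obtain ⟨b, rfl⟩ := Abelian.Ext.covariant_sequence_exact₁ _ (hj j) a
        (Subsingleton.elim (α := EtCoh.H X (E.obj j) (n + 1)) _ _) rfl
      obtain ⟨c, hc⟩ := Abelian.Ext.covariant_sequence_exact₃ _ hC (Sheaf.H.map (colimit.ι Q j) n b) rfl
        ((hnat (hj j) hC (m j) b).symm.trans ha)
      replace hc : Sheaf.H.map (S.map colim).g n c = Sheaf.H.map (colimit.ι Q j) n b := hc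
      obtain ⟨i, c', hc'⟩ := (ih E).1 c
      let k := IsFiltered.max i j
      let p : i ⟶ k := IsFiltered.leftToMax i j
      let q : j ⟶ k := IsFiltered.rightToMax i j
      let c'' := Sheaf.H.map (E.map p) n c'
      let b' := Sheaf.H.map (Q.map q) n b
      have hdiff : Sheaf.H.map (colimit.ι Q k) n (b' - Sheaf.H.map ((cokernel.π η).app k) n c'') = 0 := by
        rw [map_sub, sub_eq_zero]
        refine ((H_map_comp _ _ b).symm.trans ?_).trans (H_map_comp _ _ c'')
        refine (congrArg (fun φ => Sheaf.H.map φ n b) (colimit.w Q q)).trans (hc.symm.trans ?_)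
        refine (congrArg (Sheaf.H.map (S.map colim).g n) hc'.symm).trans ?_
        refine ((H_map_comp _ _ c').symm.trans ?_).trans (H_map_comp _ _ c')
        refine congrArg (fun φ => Sheaf.H.map φ n c') ?_
        change colimit.ι E i ≫ colimMap (cokernel.π η) = E.map p ≫ (cokernel.π η).app k ≫ colimit.ι Q k
        rw [← colimit.ι_map, colimit.w_assoc]
        rfl
      obtain ⟨l, f, hf⟩ := (ih Q).2 k _ hdiff
      rw [map_sub, sub_eq_zero] at hf
      refine ⟨l, q ≫ f, ?_⟩
      refine (hnat (hj j) (hj l) (t (q ≫ f)) b).trans ?_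
      have h3 : Sheaf.H.map (Q.map (q ≫ f)) n b =
          Sheaf.H.map (Sj l).g n (Sheaf.H.map (E.map f) n c'') := by
        rw [Functor.map_comp, H_map_comp]
        refine (hf.trans (H_map_comp _ _ c'').symm).trans (Eq.trans ?_ (H_map_comp _ _ c''))
        exact congrArg (fun φ => Sheaf.H.map φ n c'') ((cokernel.π η).naturality f).symm
      change Abelian.Ext.comp (Sheaf.H.map (Q.map (q ≫ f)) n b) (hj l).extClass rfl = 0
      rw [h3, Sheaf.H.map_apply, Abelian.Ext.comp_assoc_of_second_deg_zero, (hj l).comp_extClass,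
        Abelian.Ext.comp_zero]

/-- Etale cohomology of a qcqs scheme commutes with filtered colimits. -/
theorem preservesColimitsOfShape_HF [HasColimitsOfShape J AddCommGrpCat.{u + 1}] (n : ℕ) :
    PreservesColimitsOfShape J (EtCoh.HF X n) := by
  haveI : ReflectsColimitsOfShape J (CategoryTheory.forget AddCommGrpCat.{u + 1}) :=
    reflectsColimitsOfShape_of_reflectsIsomorphisms
  refine ⟨fun {D} => preservesColimit_of_preserves_colimit_cocone (colimit.isColimit D) ?_⟩
  obtain ⟨hs, hi⟩ := hSurj_hInj n D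
  refine isColimitOfReflects (CategoryTheory.forget AddCommGrpCat.{u + 1})
    (Types.FilteredColimit.isColimitOf' _ _ (fun x => ?_) fun i a b h => ?_)
  · obtain ⟨j, y, hy⟩ := hs x
    exact ⟨j, y, hy.symm⟩
  · exact hi.eq_stage a b h

end Groth.Agent.H18Et.CohColim
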