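import Groth.Agent.H18Et.Coh.Colimit
import Groth.Agent.H18Et.Stalk
import Mathlib.CategoryTheory.Sites.Point.Skyscraper
import Mathlib.Algebra.Category.Grp.EnoughInjectives
import Mathlib.Algebra.Category.Grp.Injective

/-!
# Effacing cohomology of a sheaf killed by an integer inside sheaves killed by that integer
-/

set_option backward.isDefEq.respectTransparency false
set_option backward.isDefEq.respectTransparency.types false

universe u

open CategoryTheory CategoryTheory.Limits AlgebraicGeometry Opposite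

namespace Groth.Agent.H18Et.SkyEmbed

open scoped Groth.Agent.H18Et

variable {X : Scheme.{u}}

theorem zsmul_surjective_of_injective (I : AddCommGrpCat.{u + 1}) [Injective I] {m : ℤ} (hm : m ≠ 0) :
    Function.Surjective (m • · : I → I) := by
  intro i
  let Z : AddCommGrpCat.{u + 1} := AddCommGrpCat.of (ULift.{u + 1} ℤ)
  let μ : Z ⟶ Z := AddCommGrpCat.ofHom (AddMonoidHom.mk' (fun z => m • z) (fun a b => smul_add m a b))
  haveI : Mono μ := (AddCommGrpCat.mono_iff_injective _).2 fun a b h =>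
    ULift.down_injective (mul_left_cancel₀ hm (congrArg ULift.down h))
  let e : Z ⟶ I := AddCommGrpCat.ofHom ((zmultiplesHom I i).comp AddEquiv.ulift.toAddMonoidHom)
  refine ⟨Injective.factorThru e μ (ULift.up 1), ?_⟩
  have h := ConcreteCategory.congr_hom (Injective.comp_factorThru e μ) (ULift.up 1)
  refine (map_zsmul _ m _).symm.trans (h.trans ?_)
  exact one_zsmul i

theorem exists_sect_eq {κ : Type (u + 1)} (G : κ → EtCoh.Ab X) (U : X.Etale) (y : ∀ x, EtCoh.sect (G x) U) :
    ∃ s : EtCoh.sect (∏ᶜ G) U, ∀ x, (Pi.π G x).hom.app (op U) s = y x := by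
  let G0 : EtCoh.Ab X ⥤ AddCommGrpCat.{u + 1} :=
    sheafToPresheaf X.smallEtaleTopology AddCommGrpCat.{u + 1} ⋙ (evaluation _ _).obj (op U)
  let e := PreservesProduct.iso G0 G
  refine ⟨e.inv ((Concrete.productEquiv (fun x => G0.obj (G x))).symm y), fun x => ?_⟩
  have h : e.inv ≫ G0.map (Pi.π G x) = Pi.π (fun x => G0.obj (G x)) x := by
    rw [Iso.inv_comp_eq, PreservesProduct.iso_hom, piComparison_comp_π]
  exact (ConcreteCategory.congr_hom h _).trans (Concrete.productEquiv_symm_apply_π _ y x)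

theorem sect_ext_pi {κ : Type (u + 1)} (G : κ → EtCoh.Ab X) (U : X.Etale) (s t : EtCoh.sect (∏ᶜ G) U)
    (h : ∀ x, (Pi.π G x).hom.app (op U) s = (Pi.π G x).hom.app (op U) t) : s = t := by
  let G0 : EtCoh.Ab X ⥤ AddCommGrpCat.{u + 1} :=
    sheafToPresheaf X.smallEtaleTopology AddCommGrpCat.{u + 1} ⋙ (evaluation _ _).obj (op U)
  exact Concrete.isLimit_ext _ (isLimitOfPreserves G0 (limit.isLimit (Discrete.functor G))) s t
    fun ⟨x⟩ => h x

variable {Ω : Type u} [Field Ω] [IsSepClosed Ω] (ξ : Spec (CommRingCat.of Ω) ⟶ X)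

/-- The skyscraper sheaf at a geometric point. -/
noncomputable abbrev sky : AddCommGrpCat.{u + 1} ⥤ EtCoh.Ab X :=
  (Scheme.pointSmallEtale ξ).skyscraperSheafFunctor

theorem sky_map_surjective {M N : AddCommGrpCat.{u + 1}} (π : M ⟶ N) (hπ : Function.Surjective π)
    (U : X.Etale) : Function.Surjective (((sky ξ).map π).hom.app (op U)) := by
  intro (y : ((∏ᶜ fun (_ : (Scheme.pointSmallEtale ξ).fiber.obj U) => N : AddCommGrpCat.{u + 1})))
  choose z hz using fun x => hπ (Concrete.productEquiv (fun _ : (Scheme.pointSmallEtale ξ).fiber.obj U => N) y x)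
  refine ⟨(Concrete.productEquiv (fun _ : (Scheme.pointSmallEtale ξ).fiber.obj U => M)).symm z, ?_⟩
  apply (Concrete.productEquiv (fun _ : (Scheme.pointSmallEtale ξ).fiber.obj U => N)).injective
  funext x
  rw [← hz x, Concrete.productEquiv_apply_apply]
  exact (ConcreteCategory.congr_hom (Limits.Pi.map_π (fun _ => π) x) _).trans
    (congrArg π (Concrete.productEquiv_symm_apply_π _ z x))

theorem sky_map_ker {M N : AddCommGrpCat.{u + 1}} (π : M ⟶ N) {n : ℕ}
    (hπ : ∀ m, π m = 0 → n • m = 0) (U : X.Etale) (s : EtCoh.sect ((sky ξ).obj M) U)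
    (hs : ((sky ξ).map π).hom.app (op U) s = 0) : n • s = 0 := by
  let s' : (∏ᶜ fun (_ : (Scheme.pointSmallEtale ξ).fiber.obj U) => M : AddCommGrpCat.{u + 1}) := s
  change n • s' = 0
  apply (Concrete.productEquiv (fun _ : (Scheme.pointSmallEtale ξ).fiber.obj U => M)).injective
  funext x
  rw [Concrete.productEquiv_apply_apply, Concrete.productEquiv_apply_apply, map_nsmul, map_zero]
  refine hπ _ ?_
  refine (ConcreteCategory.congr_hom (Limits.Pi.map_π (f := fun _ : (Scheme.pointSmallEtale ξ).fiber.obj U => M)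
    (fun _ => π) x) s').symm.trans ?_
  exact (congrArg (Pi.π (fun _ : (Scheme.pointSmallEtale ξ).fiber.obj U => N) x) hs).trans (map_zero _)

omit [IsSepClosed Ω] [Field Ω] in
theorem exists_mono_killed_acyclic_of_family [CompactSpace X] [QuasiSeparatedSpace X] {F : EtCoh.Ab X}
    {κ : Type (u + 1)} (GI GQ : κ → EtCoh.Ab X) [∀ x, Injective (GI x)] [∀ x, Injective (GQ x)]
    (π : ∀ x, GI x ⟶ GQ x) (a₀ : ∀ x, F ⟶ GI x) (ha : ∀ x, a₀ x ≫ π x = 0) (hm : Mono (Pi.lift a₀))
    {n : ℕ} (hπs : ∀ x (U : X.Etale), Function.Surjective ((π x).hom.app (op U)))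
    (hπk : ∀ x (U : X.Etale) (s : EtCoh.sect (GI x) U), (π x).hom.app (op U) s = 0 → n • s = 0) :
    ∃ (K : EtCoh.Ab X) (a : F ⟶ K), Mono a ∧ EtCoh.KilledBy n K ∧
      ∀ q, Subsingleton (EtCoh.H X K (q + 1)) := by
  let g : (∏ᶜ GI) ⟶ ∏ᶜ GQ := Limits.Pi.map π
  have hgπ : ∀ (U : X.Etale) (s : EtCoh.sect (∏ᶜ GI) U) x, (Pi.π GQ x).hom.app (op U) (g.hom.app (op U) s) =
      (π x).hom.app (op U) ((Pi.π GI x).hom.app (op U) s) := fun U s x =>
    ConcreteCategory.congr_hom (congrArg (fun φ : (∏ᶜ GI) ⟶ GQ x => φ.hom.app (op U))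
      (Limits.Pi.map_π π x)) s
  have hgs : ∀ U : X.Etale, Function.Surjective (g.hom.app (op U)) := fun U y => by
    choose z hz using fun x => hπs x U ((Pi.π GQ x).hom.app (op U) y)
    obtain ⟨s, hs⟩ := exists_sect_eq GI U z
    exact ⟨s, sect_ext_pi GQ U _ _ fun x => (hgπ U s x).trans ((congrArg _ (hs x)).trans (hz x))⟩
  have hker : ∀ (U : X.Etale) (s : EtCoh.sect (∏ᶜ GI) U), g.hom.app (op U) s = 0 → n • s = 0 :=
    fun U s hs => sect_ext_pi GI U _ _ fun x => by
      rw [map_nsmul, map_zero]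
      exact hπk x U _ ((hgπ U s x).symm.trans ((congrArg _ hs).trans (map_zero _)))
  let S := ShortComplex.mk (kernel.ι g) g (kernel.condition g)
  haveI : Epi g := by
    haveI : CategoryTheory.Sheaf.IsLocallySurjective g := ⟨fun {U} y => by
      obtain ⟨s, hs⟩ := hgs U y
      convert GrothendieckTopology.top_mem X.smallEtaleTopology U
      exact eq_top_iff.2 fun V f _ => ⟨(∏ᶜ GI).obj.map f.op s,
        (NatTrans.naturality_apply g.hom f.op s).trans (congrArg _ hs)⟩⟩
    exact Sheaf.epi_of_isLocallySurjective g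
  have hS : S.ShortExact := { exact := ShortComplex.exact_of_f_is_kernel _ (kernelIsKernel g) }
  have ha₀ : Pi.lift a₀ ≫ g = 0 := Pi.hom_ext _ _ fun x => by
    rw [Category.assoc, Limits.Pi.map_π, Pi.lift_π_assoc, zero_comp, ha x]
  refine ⟨kernel g, kernel.lift g (Pi.lift a₀) ha₀, ?_, fun U s => ?_, fun q => ?_⟩
  · haveI : Mono (kernel.lift g (Pi.lift a₀) ha₀ ≫ kernel.ι g) := by
      rw [kernel.lift_ι]; exact hm
    exact mono_of_mono _ (kernel.ι g)
  · refine (QCAc.sections_left_exact hS (op U)).1 ?_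
    rw [map_nsmul, map_zero]
    exact hker U _ (ConcreteCategory.congr_hom
      (congrArg (fun φ : kernel g ⟶ ∏ᶜ GQ => φ.hom.app (op U)) (kernel.condition g)) s)
  · refine subsingleton_of_forall_eq 0 fun x => ?_
    obtain ⟨y, rfl⟩ := Abelian.Ext.covariant_sequence_exact₁ _ hS x (Abelian.Ext.eq_zero_of_injective _) rfl
    cases q with
    | succ q =>
      haveI : Injective S.X₃ := inferInstanceAs (Injective (∏ᶜ GQ))
      rw [Abelian.Ext.eq_zero_of_injective y, Abelian.Ext.zero_comp]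
    | zero =>
      obtain ⟨φ, rfl⟩ := (Abelian.Ext.mk₀_bijective _ _).surjective y
      let hT := EtCore.topIsTerminal X
      obtain ⟨s, hs⟩ := hgs (EtCoh.top X) (CategoryTheory.Sheaf.H.equiv₀ S.X₃ hT (Abelian.Ext.mk₀ φ))
      have h2 : CategoryTheory.Sheaf.H.map S.g 0 ((CategoryTheory.Sheaf.H.equiv₀ S.X₂ hT).symm s) =
          Abelian.Ext.mk₀ φ := by
        rw [CategoryTheory.Sheaf.H.equiv₀_symm_naturality, hs, AddEquiv.symm_apply_apply]
      rw [← h2, CategoryTheory.Sheaf.H.map_apply, Abelian.Ext.comp_assoc_of_second_deg_zero,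
        hS.comp_extClass, Abelian.Ext.comp_zero]

theorem nsmul_eq_zero_of_cokernel {M I : AddCommGrpCat.{u + 1}} (ι : M ⟶ I) {n : ℕ}
    (hM : ∀ m : M, n • m = 0) (i : I) (hi : cokernel.π ι i = 0) : n • i = 0 := by
  obtain ⟨m, rfl⟩ := (ShortComplex.ab_exact_iff _).1
    (ShortComplex.exact_of_g_is_cokernel (ShortComplex.mk ι (cokernel.π ι) (cokernel.condition ι)) (cokernelIsCokernel _)) i hi
  exact (map_nsmul _ n m).symm.trans ((congrArg _ (hM m)).trans (map_zero _))

theorem injective_cokernel {M I : AddCommGrpCat.{u + 1}} (ι : M ⟶ I) [Injective I] :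
    Injective (cokernel ι) := by
  letI : DivisibleBy (cokernel ι : AddCommGrpCat.{u + 1}) ℤ := divisibleByOfSMulRightSurj _ _ (fun {m} hm q => by
    obtain ⟨i, rfl⟩ := (AddCommGrpCat.epi_iff_surjective (cokernel.π ι)).1 inferInstance q
    obtain ⟨j, rfl⟩ := zsmul_surjective_of_injective I hm i
    exact ⟨cokernel.π ι j, (map_zsmul _ m j).symm⟩)
  exact AddCommGrpCat.injective_of_divisible (cokernel ι : AddCommGrpCat.{u + 1})

theorem nsmul_stalk_eq_zero {F : EtCoh.Ab X} {n : ℕ} (hn : EtCoh.KilledBy n F)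
    (m : (EtCoh.stalk ξ).obj F) : n • m = 0 := by
  obtain ⟨V, z, s, rfl⟩ := germ_surjective ξ F m
  exact (map_nsmul _ n s).symm.trans ((congrArg _ (hn V s)).trans (map_zero _))

theorem injective_sky (I : AddCommGrpCat.{u + 1}) [Injective I] : Injective ((sky ξ).obj I) :=
  Injective.injective_of_adjoint ((Scheme.pointSmallEtale ξ).skyscraperSheafAdjunction
    (A := AddCommGrpCat.{u + 1})) _

/-- The map to the skyscraper of an injective containing the stalk. -/
noncomputable def toSky (F : EtCoh.Ab X) :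
    F ⟶ (sky ξ).obj (Injective.under ((EtCoh.stalk ξ).obj F)) :=
  ((Scheme.pointSmallEtale ξ).skyscraperSheafAdjunction (A := AddCommGrpCat.{u + 1})).homEquiv F _
    (Injective.ι ((EtCoh.stalk ξ).obj F))

theorem toSky_comp (F : EtCoh.Ab X) :
    toSky ξ F ≫ (sky ξ).map (cokernel.π (Injective.ι ((EtCoh.stalk ξ).obj F))) = 0 := by
  refine (((Scheme.pointSmallEtale ξ).skyscraperSheafAdjunction (A := AddCommGrpCat.{u + 1})).homEquiv_naturality_right
    (Injective.ι ((EtCoh.stalk ξ).obj F)) (cokernel.π _)).symm.trans ?_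
  refine (congrArg _ (cokernel.condition (Injective.ι ((EtCoh.stalk ξ).obj F)))).trans ?_
  haveI : (sky ξ).PreservesZeroMorphisms := by
    haveI : (sky ξ).IsRightAdjoint := ((Scheme.pointSmallEtale ξ).skyscraperSheafAdjunction
      (A := AddCommGrpCat.{u + 1})).isRightAdjoint
    infer_instance
  exact (Adjunction.homEquiv_unit _ _ _ _).trans
    ((congrArg (((Scheme.pointSmallEtale ξ).skyscraperSheafAdjunction (A := AddCommGrpCat.{u + 1})).unit.app F ≫ ·)
      ((sky ξ).map_zero _ _)).trans comp_zero)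

theorem stalk_toSky_injective (F : EtCoh.Ab X) : Function.Injective ((EtCoh.stalk ξ).map (toSky ξ F)) := by
  intro p p' h
  refine (AddCommGrpCat.mono_iff_injective (Injective.ι ((EtCoh.stalk ξ).obj F))).1 inferInstance ?_
  let adj := (Scheme.pointSmallEtale ξ).skyscraperSheafAdjunction (A := AddCommGrpCat.{u + 1})
  have h2 : Injective.ι ((EtCoh.stalk ξ).obj F) = (EtCoh.stalk ξ).map (toSky ξ F) ≫ adj.counit.app _ :=
    ((adj.homEquiv F _).symm_apply_apply _).symm.trans (adj.homEquiv_counit F _ (toSky ξ F))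
  rw [h2]
  exact congrArg (adj.counit.app _) h

/-- A sheaf killed by `n` embeds into one killed by `n` without higher cohomology on a qcqs scheme. -/
theorem exists_mono_killed_acyclic [CompactSpace X] [QuasiSeparatedSpace X] (F : EtCoh.Ab X) {n : ℕ}
    (hn : EtCoh.KilledBy n F) :
    ∃ (K : EtCoh.Ab X) (a : F ⟶ K), Mono a ∧ EtCoh.KilledBy n K ∧
      ∀ q, Subsingleton (EtCoh.H X K (q + 1)) := by
  haveI : ∀ x : ULift.{u + 1} X, Injective ((sky (geomPt x.down)).obj
      (Injective.under ((EtCoh.stalk (geomPt x.down)).obj F))) := fun x => injective_sky _ _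
  haveI : ∀ x : ULift.{u + 1} X, Injective ((sky (geomPt x.down)).obj
      (cokernel (Injective.ι ((EtCoh.stalk (geomPt x.down)).obj F)))) := fun x =>
    @injective_sky X _ _ _ (geomPt x.down) _ (injective_cokernel _)
  refine exists_mono_killed_acyclic_of_family (κ := ULift.{u + 1} X) _ _
    (fun x => (sky (geomPt x.down)).map (cokernel.π (Injective.ι ((EtCoh.stalk (geomPt x.down)).obj F))))
    (fun x => toSky (geomPt x.down) F) (fun x => toSky_comp _ _) ?_
    (fun x U => sky_map_surjective _ _ ((AddCommGrpCat.epi_iff_surjective _).1 inferInstance) U)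
    (fun x U s hs => sky_map_ker _ _ (fun i hi => nsmul_eq_zero_of_cokernel _
      (nsmul_stalk_eq_zero _ hn) i hi) U s hs)
  refine mono_of_stalk _ fun x => ⟨_, inferInstance, inferInstance, geomPt x, geomPt_base x, fun p p' h => ?_⟩
  refine stalk_toSky_injective (geomPt x) F ?_
  rw [← Pi.lift_π (fun x : ULift.{u + 1} X => toSky (geomPt x.down) F) ⟨x⟩, Functor.map_comp,
    ConcreteCategory.comp_apply, h]
  rfl

end Groth.Agent.H18Et.SkyEmbed
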