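import Groth.Agent.H18Et.Cons.SectColim
import Groth.Agent.H18Et.Subterminal
import Groth.Agent.H18Cech.Lift
import Groth.Agent.H18Cech.InjectiveVanish
import Mathlib.CategoryTheory.Preadditive.Injective.Preserves

/-!
# Čech acyclicity for finite families of qcqs etale schemes
-/

set_option backward.isDefEq.respectTransparency false
set_option backward.isDefEq.respectTransparency.types false

universe u w

open CategoryTheory CategoryTheory.Limits AlgebraicGeometry Opposite

namespace Groth.Agent.H18Et.QCAc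

open scoped Groth.Agent.H18Et

variable {X : Scheme.{u}}

/-- Quasi-compact and quasi-separated objects of the site. -/
def QCQS (U : X.Etale) : Prop := CompactSpace U.left ∧ QuasiSeparatedSpace U.left

theorem qcqs_of_isAffine (U : X.Etale) [IsAffine U.left] : QCQS U := ⟨inferInstance, inferInstance⟩

theorem qcqs_of_iso {U V : X.Etale} (e : U ≅ V) (h : QCQS U) : QCQS V := by
  have e' : U.left ≅ V.left := (MorphismProperty.Over.forget _ _ _ ⋙ Over.forget X).mapIso e
  haveI := h.1
  haveI := h.2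
  exact ⟨QuasiCompact.compactSpace_of_compactSpace e'.inv,
    quasiSeparatedSpace_of_quasiSeparated e'.inv⟩

variable {U : X.Etale} [HasFiniteProducts (Over U)] {ι : Type w} (Y : ι → Over U)

/-- Finite fibre products of qcqs objects over a qcqs object are qcqs. -/
theorem qcqs_prod (hU : QCQS U) (hY : ∀ i, QCQS (Y i).left) :
    ∀ (n : ℕ) (a : Fin (n + 1) → ι), QCQS (∏ᶜ (Y ∘ a)).left := by
  intro n
  induction n with
  | zero =>
    intro a
    have e : ∏ᶜ (Y ∘ a) ≅ Y (a 0) :=
      { hom := Pi.π (Y ∘ a) 0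
        inv := Pi.lift fun k => eqToHom (by rw [Function.comp_apply, Fin.fin_one_eq_zero k])
        hom_inv_id := Pi.hom_ext _ _ fun k => by
          obtain rfl := Fin.fin_one_eq_zero k
          rw [Category.assoc, Pi.lift_π, eqToHom_refl, Category.comp_id, Category.id_comp]
        inv_hom_id := by rw [Pi.lift_π, eqToHom_refl] }
    exact qcqs_of_iso ((Over.forget U).mapIso e).symm (hY _)
  | succ n ih =>
    intro a
    let A := Y (a 0)
    let R := ∏ᶜ (Y ∘ (a ∘ Fin.succ))
    haveI : CompactSpace U.left := hU.1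
    haveI : QuasiSeparatedSpace U.left := hU.2
    haveI : CompactSpace A.left.left := (hY (a 0)).1
    haveI : QuasiSeparatedSpace A.left.left := (hY (a 0)).2
    haveI : CompactSpace R.left.left := (ih _).1
    haveI : QuasiSeparatedSpace R.left.left := (ih _).2
    haveI : Etale A.left.hom := A.left.prop
    haveI : Etale R.hom.left := etale_left R.hom
    haveI : Etale A.hom.left := etale_left A.hom
    haveI : QuasiCompact R.hom.left := quasiCompact_of_compactSpace _
    haveI : QuasiSeparated R.hom.left := inferInstance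
    let q₁ := pullback.fst A.hom.left R.hom.left
    let W : X.Etale := MorphismProperty.Over.mk ⊤ (q₁ ≫ A.left.hom) (inferInstanceAs (Etale _))
    let p : W ⟶ A.left := MorphismProperty.Over.homMk q₁ rfl trivial
    let q : W ⟶ R.left := MorphismProperty.Over.homMk (pullback.snd A.hom.left R.hom.left) (by
      have h1 := Over.w A.hom.hom
      have h2 := Over.w R.hom.hom
      exact (congrArg (pullback.snd _ _ ≫ ·) h2.symm).trans
        ((pullback.condition_assoc _).symm.trans (congrArg (q₁ ≫ ·) h1))) trivial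
    have hpq : p ≫ A.hom = q ≫ R.hom :=
      (Scheme.Etale.forget _).map_injective (Over.OverMorphism.ext pullback.condition)
    let Q : Over U := Over.mk (p ≫ A.hom)
    let pA : Q ⟶ A := Over.homMk p rfl
    let qR : Q ⟶ R := Over.homMk q hpq.symm
    let ℓ : ∏ᶜ (Y ∘ a) ⟶ R := Pi.lift fun k => Pi.π (Y ∘ a) k.succ
    let l : ∏ᶜ (Y ∘ a) ⟶ Q := Over.homMk (MorphismProperty.Over.homMk
        (pullback.lift (Pi.π (Y ∘ a) 0).left.left ℓ.left.left
          ((congrArg (fun e : (∏ᶜ (Y ∘ a)).left ⟶ U => e.left) (Over.w (Pi.π (Y ∘ a) 0))).trans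
            (congrArg (fun e : (∏ᶜ (Y ∘ a)).left ⟶ U => e.left) (Over.w ℓ)).symm))
        ((pullback.lift_fst_assoc _ _ _ _).trans (Over.w (Pi.π (Y ∘ a) 0).left.hom)) trivial)
      ((Scheme.Etale.forget _).map_injective (Over.OverMorphism.ext
        ((pullback.lift_fst_assoc _ _ _ _).trans
          (congrArg (fun e : (∏ᶜ (Y ∘ a)).left ⟶ U => e.left) (Over.w (Pi.π (Y ∘ a) 0))))))
    have hlA : l ≫ pA = Pi.π (Y ∘ a) 0 := Over.OverMorphism.ext
      ((Scheme.Etale.forget _).map_injective (Over.OverMorphism.ext (pullback.lift_fst _ _ _)))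
    have hlR : l ≫ qR = ℓ := Over.OverMorphism.ext
      ((Scheme.Etale.forget _).map_injective (Over.OverMorphism.ext (pullback.lift_snd _ _ _)))
    let m : Q ⟶ ∏ᶜ (Y ∘ a) := Pi.lift (Fin.cases pA fun k => qR ≫ Pi.π (Y ∘ (a ∘ Fin.succ)) k)
    have hmA : m ≫ Pi.π (Y ∘ a) 0 = pA := Pi.lift_π _ _
    have hmR : m ≫ ℓ = qR := Pi.hom_ext _ _ fun k =>
      ((Category.assoc _ _ _).trans (congrArg (m ≫ ·) (Pi.lift_π _ k))).trans (Pi.lift_π _ k.succ)
    have e : ∏ᶜ (Y ∘ a) ≅ Q :=
      { hom := l
        inv := m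
        hom_inv_id := Pi.hom_ext _ _ fun k => by
          rw [Category.assoc, Category.id_comp]
          refine Fin.cases ?_ (fun k => ?_) k
          · rw [hmA, hlA]
          · refine (congrArg (l ≫ ·) (Pi.lift_π _ k.succ)).trans ?_
            refine (Category.assoc _ _ _).symm.trans ?_
            rw [hlR]
            exact Pi.lift_π _ k
        inv_hom_id := by
          refine Over.OverMorphism.ext ((Scheme.Etale.forget _).map_injective (Over.OverMorphism.ext
            (pullback.hom_ext ?_ ?_)))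
          · refine Eq.trans ?_ (Category.id_comp _).symm
            exact congrArg (fun e : Q ⟶ A => e.left.left)
              (((Category.assoc m l pA).trans (congrArg (m ≫ ·) hlA)).trans hmA)
          · refine Eq.trans ?_ (Category.id_comp _).symm
            exact congrArg (fun e : Q ⟶ R => e.left.left)
              (((Category.assoc m l qR).trans (congrArg (m ≫ ·) hlR)).trans hmR) }
    refine qcqs_of_iso ((Over.forget U).mapIso e).symm ⟨?_, ?_⟩
    · exact QuasiCompact.compactSpace_of_compactSpace q₁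
    · exact quasiSeparatedSpace_of_quasiSeparated q₁

section
variable {J : Type*} [Category J] {D : J ⥤ EtCoh.Ab X}

end

/-- Čech acyclicity for finite qcqs families. -/
def IsQCAcyclic (G : EtCoh.Ab X) : Prop :=
  ∀ (U : X.Etale) [HasFiniteProducts (Over U)] (ι : Type (u + 1)) [Finite ι] (Y : ι → Over U), QCQS U →
    (∀ i, QCQS (Y i).left) → ∀ p : ℕ, IsZero (EtCech.cechH Y G.obj (p + 1))

theorem isQCAcyclic_of_injective (G : EtCoh.Ab X) [Injective G] : IsQCAcyclic G := by
  intro U _ ι _ Y _ _ p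
  haveI : Injective G.obj :=
    Injective.injective_of_adjoint (sheafificationAdjunction X.smallEtaleTopology AddCommGrpCat.{u + 1}) G
  exact Groth.Agent.H18Cech.isZero_cechH_of_injective Y _ p

open Groth.Agent.H18Cech in
/-- A filtered colimit of injective sheaves is Čech acyclic. -/
theorem isQCAcyclic_colimit {J : Type w} [SmallCategory J] [IsFiltered J]
    [PreservesColimitsOfShape J (CategoryTheory.forget AddCommGrpCat.{u + 1})]
    {D : J ⥤ EtCoh.Ab X} {c : Cocone D} (hc : IsColimit c) (hD : ∀ j, IsQCAcyclic (D.obj j)) :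
    IsQCAcyclic c.pt := by
  classical
  intro U _ ι _ Y hU hY p
  haveI := Fintype.ofFinite ι
  refine isZero_cechH_succ Y c.pt.obj fun x hx => ?_
  have hcq : ∀ (m : ℕ) (a : Fin (m + 1) → ι), CompactSpace (∏ᶜ (Y ∘ a)).left.left ∧
      QuasiSeparatedSpace (∏ᶜ (Y ∘ a)).left.left := qcqs_prod Y hU hY
  choose j t ht using fun a : Fin (p + 1 + 1) → ι =>
    haveI := (hcq _ a).1
    haveI := (hcq _ a).2
    Cons.sect_colim_surj (c := c) hc (U := (∏ᶜ (Y ∘ a)).left) ((Pi.π (val Y c.pt.obj (p + 1)) a).hom x)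
  obtain ⟨j₀, hj₀⟩ := IsFiltered.sup_objs_exists (Finset.univ.image j)
  let g : ∀ a, j a ⟶ j₀ := fun a => (hj₀ (Finset.mem_image_of_mem j (Finset.mem_univ a))).some
  let x₀ : C' Y (D.obj j₀).obj (p + 1) :=
    (Concrete.productEquiv (val Y (D.obj j₀).obj (p + 1))).symm fun a => (D.map (g a)).hom.app _ (t a)
  have hx₀ : (mapC Y (c.ι.app j₀).hom (p + 1)).hom x₀ = x := by
    apply (Concrete.productEquiv (val Y c.pt.obj (p + 1))).injective
    funext a
    rw [Concrete.productEquiv_apply_apply, Concrete.productEquiv_apply_apply]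
    refine (π_mapC Y (c.ι.app j₀).hom x₀ a).trans ?_
    refine (congrArg _ (Concrete.productEquiv_symm_apply_π (val Y (D.obj j₀).obj (p + 1)) _ a)).trans ?_
    exact (ConcreteCategory.congr_hom
      (congrArg (fun φ : D.obj (j a) ⟶ c.pt => φ.hom.app (op (∏ᶜ (Y ∘ a)).left)) (c.w (g a))) (t a)).trans
      (ht a)
  have hmd : ∀ {A B : EtCoh.Ab X} (φ : A ⟶ B) (n : ℕ) (y : C' Y A.obj n),
      (mapC Y φ.hom (n + 1)).hom ((d Y A.obj n).hom y) = (d Y B.obj n).hom ((mapC Y φ.hom n).hom y) :=
    fun φ n y => (ConcreteCategory.congr_hom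
      (((cechComplexFunctor Y).map (Functor.whiskerLeft (Over.forget U).op φ.hom)).comm n (n + 1)) y).symm
  have hex : ∀ a : Fin (p + 1 + 1 + 1) → ι, ∃ (k : J) (f : j₀ ⟶ k), (D.map f).hom.app _
      ((Pi.π (val Y (D.obj j₀).obj (p + 1 + 1)) a).hom ((d Y (D.obj j₀).obj (p + 1)).hom x₀)) = 0 := fun a => by
    haveI := (hcq _ a).1
    refine Cons.sect_colim_inj (c := c) hc _ ?_
    refine (π_mapC Y (c.ι.app j₀).hom _ a).symm.trans ?_
    exact (congrArg (Pi.π (val Y c.pt.obj (p + 1 + 1)) a).hom ((hmd (B := c.pt) (c.ι.app j₀) _ x₀).trans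
      ((congrArg (d Y c.pt.obj (p + 1)).hom hx₀).trans hx))).trans (map_zero _)
  obtain ⟨k, f, hf⟩ := Cons.exists_common_stage _ hex fun a k l f g e => by
    rw [D.map_comp]
    exact (congrArg ((D.map g).hom.app _) e).trans (map_zero _)
  have hdk : (d Y (D.obj k).obj (p + 1)).hom ((mapC Y (D.map f).hom (p + 1)).hom x₀) = 0 := by
    rw [← hmd (D.map f)]
    apply (Concrete.productEquiv (val Y (D.obj k).obj (p + 1 + 1))).injective
    funext a
    rw [Concrete.productEquiv_apply_apply, Concrete.productEquiv_apply_apply, map_zero]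
    exact (π_mapC Y (D.map f).hom _ a).trans (hf a)
  obtain ⟨y, hy⟩ := exists_of_isZero_cechH_succ Y (D.obj k).obj (hD k U ι Y hU hY p) _ hdk
  refine ⟨(mapC Y (c.ι.app k).hom p).hom y, ?_⟩
  refine ((hmd (B := c.pt) (c.ι.app k) p y).symm.trans (congrArg _ hy)).trans ?_
  refine Eq.trans ?_ hx₀
  apply (Concrete.productEquiv (val Y c.pt.obj (p + 1))).injective
  funext a
  rw [Concrete.productEquiv_apply_apply, Concrete.productEquiv_apply_apply]
  refine (π_mapC Y (c.ι.app k).hom _ a).trans ((congrArg _ (π_mapC Y (D.map f).hom x₀ a)).trans ?_)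
  exact (ConcreteCategory.congr_hom
      (congrArg (fun φ : D.obj j₀ ⟶ c.pt => φ.hom.app (op (∏ᶜ (Y ∘ a)).left)) (c.w f)) _).trans
    (π_mapC Y (c.ι.app j₀).hom x₀ a).symm

/-- A covering sieve of a qcqs object contains a finite affine covering family. -/
theorem exists_finite_refine {W : X.Etale} (hW : QCQS W) {R : Sieve W} (hR : R ∈ X.smallEtaleTopology W) :
    ∃ (ι : Type (u + 1)) (_ : Finite ι) (Y : ι → Over W), (∀ i, QCQS (Y i).left) ∧ (∀ i, R (Y i).hom) ∧
      Sieve.generate (Presieve.ofArrows (fun i => (Y i).left) (fun i => (Y i).hom)) ∈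
        X.smallEtaleTopology W := by
  haveI := hW.1
  choose V g v hv hvy using fun x : W.left => Subterminal.exists_mem_of_cover hR x
  have haff : ∀ x : W.left, ∃ (P : X.Etale) (_ : IsAffine P.left) (i : P ⟶ V x),
      v x ∈ Set.range i.left.base := by
    intro x
    obtain ⟨B, hB, hvB, -⟩ := exists_isAffineOpen_mem_and_subset (X := (V x).left) (x := v x) (U := ⊤) trivial
    haveI : Etale (V x).hom := (V x).prop
    exact ⟨MorphismProperty.Over.mk ⊤ (B.ι ≫ (V x).hom) (inferInstanceAs (Etale _)), hB,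
      MorphismProperty.Over.homMk B.ι rfl trivial, ⟨v x, hvB⟩, rfl⟩
  choose P hP i hi using haff
  haveI : ∀ x, IsAffine (P x).left := hP
  obtain ⟨t, ht⟩ := (isCompact_univ (X := W.left)).elim_finite_subcover
    (fun x => Set.range (i x ≫ g x).left.base)
    (fun x => haveI := etale_left (i x ≫ g x); (i x ≫ g x).left.isOpenMap.isOpen_range)
    fun x _ => Set.mem_iUnion.2 ⟨x, by
      obtain ⟨w, hw⟩ := hi x
      exact ⟨w, (congrArg (g x).left.base hw).trans (hvy x)⟩⟩
  refine ⟨ULift.{u + 1} t, inferInstance, fun a => Over.mk (i a.down.1 ≫ g a.down.1),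
    fun a => qcqs_of_isAffine (P a.down.1), fun a => R.downward_closed (hv _) _, ?_⟩
  refine mem_topology_of_forall_point _ fun x => ?_
  obtain ⟨y, hy, w, hw⟩ := Set.mem_iUnion₂.1 (ht (Set.mem_univ x))
  exact ⟨P y, i y ≫ g y, w, ⟨P y, 𝟙 _, i y ≫ g y,
    Presieve.ofArrows.mk (ULift.up (⟨y, hy⟩ : t)), Category.id_comp _⟩, hw⟩

section ShortExact

variable {S : ShortComplex (EtCoh.Ab X)}

theorem sections_left_exact (hS : S.ShortExact) (V : X.Etaleᵒᵖ) :
    Function.Injective (S.f.hom.app V) ∧ ∀ x, S.g.hom.app V x = 0 → ∃ y, S.f.hom.app V y = x := by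
  haveI := hS.mono_f
  haveI : Mono ((sheafToPresheaf _ _).map S.f) := (sheafToPresheaf _ _).map_mono S.f
  refine ⟨(AddCommGrpCat.mono_iff_injective _).1
    (inferInstanceAs (Mono (((sheafToPresheaf _ _).map S.f).app V))), ?_⟩
  exact (ShortComplex.ab_exact_iff _).1 (hS.exact.map_of_mono_of_preservesKernel
    (sheafToPresheaf X.smallEtaleTopology AddCommGrpCat.{u + 1} ⋙ (evaluation _ _).obj V) inferInstance inferInstance)

/-- An epimorphism with Čech acyclic kernel is surjective on sections over qcqs objects. -/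
theorem surjective_sections (hS : S.ShortExact) (h₁ : IsQCAcyclic S.X₁) (W : X.Etale) (hW : QCQS W) :
    Function.Surjective (S.g.hom.app (op W)) := by
  intro s
  haveI := hS.epi_g
  haveI : Sheaf.IsLocallySurjective S.g := (Sheaf.isLocallySurjective_iff_epi' _ S.g).2 inferInstance
  obtain ⟨ι, _, Y, hY, hR, hgen⟩ := exists_finite_refine hW (Presheaf.imageSieve_mem _ S.g.hom s)
  have hsh : ∀ G : EtCoh.Ab X, Presieve.IsSheafFor (G.obj ⋙ CategoryTheory.forget AddCommGrpCat.{u + 1})
      (Presieve.ofArrows (fun i => (Y i).left) (fun i => (Y i).hom)) := fun G => by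
    rw [Presieve.isSheafFor_iff_generate]
    exact ((isSheaf_iff_isSheaf_of_type _ _).1
      ((sheafCompose _ (CategoryTheory.forget AddCommGrpCat.{u + 1})).obj G).property) _ hgen
  exact Groth.Agent.H18Cech.exists_lift_of_isZero (S := S.map (sheafToPresheaf _ _)) Y
    (fun V => (sections_left_exact hS V).1) (fun V => (sections_left_exact hS V).2) (hsh S.X₂)
    (hsh S.X₃).isSeparatedFor (h₁ W ι Y hW hY 0) s hR

/-- The quotient of Čech acyclic sheaves is Čech acyclic. -/
theorem isQCAcyclic_X₃ (hS : S.ShortExact) (h₁ : IsQCAcyclic S.X₁) (h₂ : IsQCAcyclic S.X₂) :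
    IsQCAcyclic S.X₃ := by
  intro U _ ι _ Y hU hY p
  have hT := Groth.Agent.H18Cech.shortExact_map (S := S.map (sheafToPresheaf _ _)) Y
    (fun V => (sections_left_exact hS V).1) (fun V => (sections_left_exact hS V).2)
    fun n a => surjective_sections hS h₁ _ (qcqs_prod Y hU hY n a)
  exact (hT.homology_exact₃ (p + 1) (p + 1 + 1) rfl).isZero_of_both_zeros
    ((h₂ U ι Y hU hY p).eq_of_src _ _) ((h₁ U ι Y hU hY (p + 1)).eq_of_tgt _ _)

end ShortExact

/-- Čech acyclic sheaves have no higher cohomology on a qcqs scheme. -/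
theorem subsingleton_H [CompactSpace X] [QuasiSeparatedSpace X] :
    ∀ (p : ℕ) (G : EtCoh.Ab X), IsQCAcyclic G → Subsingleton (EtCoh.H X G (p + 1)) := by
  intro p
  induction p with
  | zero =>
    intro G hG
    let S := ShortComplex.mk (Injective.ι G) (cokernel.π (Injective.ι G)) (cokernel.condition _)
    have hS : S.ShortExact := { exact := ShortComplex.exact_of_g_is_cokernel _ (cokernelIsCokernel _) }
    refine subsingleton_of_forall_eq 0 fun x => ?_
    obtain ⟨y, rfl⟩ := Abelian.Ext.covariant_sequence_exact₁ _ hS x (Abelian.Ext.eq_zero_of_injective _) rfl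
    obtain ⟨φ, rfl⟩ := (Abelian.Ext.mk₀_bijective _ _).surjective y
    let hT := EtCore.topIsTerminal X
    obtain ⟨s, hs⟩ := surjective_sections hS hG (EtCoh.top X) ⟨‹CompactSpace X›, ‹QuasiSeparatedSpace X›⟩
      (CategoryTheory.Sheaf.H.equiv₀ S.X₃ hT (Abelian.Ext.mk₀ φ))
    have h2 : CategoryTheory.Sheaf.H.map S.g 0 ((CategoryTheory.Sheaf.H.equiv₀ S.X₂ hT).symm s) =
        Abelian.Ext.mk₀ φ := by
      rw [CategoryTheory.Sheaf.H.equiv₀_symm_naturality, hs, AddEquiv.symm_apply_apply]
    rw [← h2, CategoryTheory.Sheaf.H.map_apply, Abelian.Ext.comp_assoc_of_second_deg_zero,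
      hS.comp_extClass, Abelian.Ext.comp_zero]
  | succ p ih =>
    intro G hG
    let S := ShortComplex.mk (Injective.ι G) (cokernel.π (Injective.ι G)) (cokernel.condition _)
    have hS : S.ShortExact := { exact := ShortComplex.exact_of_g_is_cokernel _ (cokernelIsCokernel _) }
    refine subsingleton_of_forall_eq 0 fun x => ?_
    obtain ⟨y, rfl⟩ := Abelian.Ext.covariant_sequence_exact₁ _ hS x (Abelian.Ext.eq_zero_of_injective _) rfl
    rw [(ih S.X₃ (isQCAcyclic_X₃ hS hG (isQCAcyclic_of_injective _))).elim y 0, Abelian.Ext.zero_comp]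

end Groth.Agent.H18Et.QCAc
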