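import Groth.Agent.H18Et.Coh.QCAcyclic

/-!
# Homology and filtered colimits, elementwise; Čech cohomology of finite qcqs families
-/

set_option backward.isDefEq.respectTransparency false
set_option backward.isDefEq.respectTransparency.types false

universe u w v

open CategoryTheory CategoryTheory.Limits AlgebraicGeometry Opposite

namespace Groth.Agent.H18Et.CechColim

open scoped Groth.Agent.H18Et

section Complex

variable {I : Type w} [Category I] [IsFiltered I] (E : I ⥤ CochainComplex AddCommGrpCat.{v} ℕ)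
  (d : Cocone E)

/-- Elements of the `n`-th term of the vertex come from a stage. -/
def XSurj (n : ℕ) : Prop := ∀ x : d.pt.X n, ∃ (i : I) (t : (E.obj i).X n), (d.ι.app i).f n t = x

/-- Elements killed in the vertex are killed at a stage. -/
def XInj (n : ℕ) : Prop := ∀ (i : I) (t : (E.obj i).X n), (d.ι.app i).f n t = 0 →
  ∃ (k : I) (f : i ⟶ k), (E.map f).f n t = 0

omit [Category I] [IsFiltered I] in
theorem exists_cycle (K : CochainComplex AddCommGrpCat.{v} ℕ) (q : ℕ) (x : K.X q)
    (hx : K.d q ((ComplexShape.up ℕ).next q) x = 0) : ∃ c : K.cycles q, K.iCycles q c = x :=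
  (ShortComplex.ab_exact_iff _).1 (ShortComplex.exact_of_f_is_kernel
    (ShortComplex.mk (K.iCycles q) (K.d q _) (K.iCycles_d q _)) (K.cyclesIsKernel q _ rfl)) x hx

omit [Category I] [IsFiltered I] in
theorem exists_boundary (K : CochainComplex AddCommGrpCat.{v} ℕ) (q : ℕ) (c : K.cycles q)
    (hc : K.homologyπ q c = 0) :
    ∃ b : K.X ((ComplexShape.up ℕ).prev q), K.toCycles _ q b = c :=
  (ShortComplex.ab_exact_iff _).1 (ShortComplex.exact_of_g_is_cokernel
    (ShortComplex.mk (K.toCycles _ q) (K.homologyπ q) (K.toCycles_comp_homologyπ _ q))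
      (K.homologyIsCokernel _ q rfl)) c hc

omit [Category I] [IsFiltered I] in
theorem iCycles_map {K L : CochainComplex AddCommGrpCat.{v} ℕ} (φ : K ⟶ L) (q : ℕ) (c : K.cycles q) :
    L.iCycles q (HomologicalComplex.cyclesMap φ q c) = φ.f q (K.iCycles q c) :=
  ConcreteCategory.congr_hom (HomologicalComplex.cyclesMap_i φ q) c

omit [Category I] [IsFiltered I] in
theorem homologyπ_map {K L : CochainComplex AddCommGrpCat.{v} ℕ} (φ : K ⟶ L) (q : ℕ) (c : K.cycles q) :
    HomologicalComplex.homologyMap φ q (K.homologyπ q c) =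
      L.homologyπ q (HomologicalComplex.cyclesMap φ q c) :=
  ConcreteCategory.congr_hom (HomologicalComplex.homologyπ_naturality φ q) c

omit [Category I] [IsFiltered I] in
theorem iCycles_injective (K : CochainComplex AddCommGrpCat.{v} ℕ) (q : ℕ) :
    Function.Injective (K.iCycles q) := (AddCommGrpCat.mono_iff_injective _).1 inferInstance

variable {E d}

omit [IsFiltered I] in
theorem ι_map {i k : I} (f : i ⟶ k) (n : ℕ) (t : (E.obj i).X n) :
    (d.ι.app k).f n ((E.map f).f n t) = (d.ι.app i).f n t :=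
  ConcreteCategory.congr_hom (congrArg (fun φ : E.obj i ⟶ d.pt => φ.f n) (d.w f)) t

theorem homology_surj (hs : ∀ n, XSurj E d n) (hi : ∀ n, XInj E d n) (q : ℕ) (h : d.pt.homology q) :
    ∃ (i : I) (y : (E.obj i).homology q), HomologicalComplex.homologyMap (d.ι.app i) q y = h := by
  obtain ⟨c, rfl⟩ := (AddCommGrpCat.epi_iff_surjective (d.pt.homologyπ q)).1 inferInstance h
  obtain ⟨i, t, ht⟩ := hs q (d.pt.iCycles q c)
  obtain ⟨k, f, hf⟩ := hi _ i ((E.obj i).d q ((ComplexShape.up ℕ).next q) t) (by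
    refine (ConcreteCategory.congr_hom ((d.ι.app i).comm q _) t).symm.trans ?_
    exact (congrArg (d.pt.d q _) ht).trans (ConcreteCategory.congr_hom (d.pt.iCycles_d q _) c))
  obtain ⟨c', hc'⟩ := exists_cycle (E.obj k) q ((E.map f).f q t)
    ((ConcreteCategory.congr_hom ((E.map f).comm q _) t).trans hf)
  refine ⟨k, (E.obj k).homologyπ q c', (homologyπ_map _ q c').trans (congrArg _ (iCycles_injective d.pt q ?_))⟩
  exact ((iCycles_map (d.ι.app k) q c').trans (congrArg _ hc')).trans ((ι_map f q t).trans ht)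

theorem homology_inj (hs : ∀ n, XSurj E d n) (hi : ∀ n, XInj E d n) (q : ℕ) (i : I)
    (y : (E.obj i).homology q) (hy : HomologicalComplex.homologyMap (d.ι.app i) q y = 0) :
    ∃ (k : I) (f : i ⟶ k), HomologicalComplex.homologyMap (E.map f) q y = 0 := by
  obtain ⟨c, rfl⟩ := (AddCommGrpCat.epi_iff_surjective ((E.obj i).homologyπ q)).1 inferInstance y
  rw [homologyπ_map] at hy
  obtain ⟨b, hb⟩ := exists_boundary d.pt q _ hy
  obtain ⟨j, t, ht⟩ := hs _ b
  let k₀ := IsFiltered.max i j
  let f₀ : i ⟶ k₀ := IsFiltered.leftToMax i j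
  let g₀ : j ⟶ k₀ := IsFiltered.rightToMax i j
  let t₀ := (E.map g₀).f _ t
  let x₀ := (E.map f₀).f q ((E.obj i).iCycles q c) - (E.obj k₀).d _ q t₀
  obtain ⟨k, f, hf⟩ := hi q k₀ x₀ (by
    simp only [x₀, t₀, map_sub, sub_eq_zero]
    rw [ι_map, ← iCycles_map, ← hb]
    refine Eq.trans ?_ (ConcreteCategory.congr_hom ((d.ι.app k₀).comm _ q) _)
    refine (ConcreteCategory.congr_hom (d.pt.toCycles_i _ q) b).trans ?_
    exact congrArg (d.pt.d _ q) ((ι_map g₀ _ t).trans ht).symm)
  simp only [x₀, map_sub, sub_eq_zero] at hf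
  refine ⟨k, f₀ ≫ f, ?_⟩
  rw [homologyπ_map]
  have e : (E.obj k).toCycles _ q ((E.map f).f _ t₀) = HomologicalComplex.cyclesMap (E.map (f₀ ≫ f)) q c := by
    refine iCycles_injective (E.obj k) q ?_
    rw [iCycles_map]
    refine (ConcreteCategory.congr_hom ((E.obj k).toCycles_i _ q) _).trans ?_
    refine (ConcreteCategory.congr_hom ((E.map f).comm _ q) t₀).trans ?_
    refine hf.symm.trans ?_
    rw [E.map_comp]
    rfl
  rw [← e]
  exact ConcreteCategory.congr_hom ((E.obj k).toCycles_comp_homologyπ _ q) _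

theorem homology_eq_stage (hs : ∀ n, XSurj E d n) (hi : ∀ n, XInj E d n) (q : ℕ) {i : I}
    (a b : (E.obj i).homology q)
    (hab : HomologicalComplex.homologyMap (d.ι.app i) q a = HomologicalComplex.homologyMap (d.ι.app i) q b) :
    ∃ (k : I) (f : i ⟶ k), HomologicalComplex.homologyMap (E.map f) q a =
      HomologicalComplex.homologyMap (E.map f) q b := by
  obtain ⟨k, f, hf⟩ := homology_inj hs hi q i (a - b) ((map_sub _ _ _).trans (sub_eq_zero.2 hab))
  exact ⟨k, f, sub_eq_zero.1 ((map_sub _ _ _).symm.trans hf)⟩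

/-- Filtered colimits of complexes that are degreewise elementwise colimits give colimits in homology. -/
noncomputable def isColimitHomology [HasColimitsOfShape I AddCommGrpCat.{v}]
    [PreservesColimitsOfShape I (CategoryTheory.forget AddCommGrpCat.{v})]
    (hs : ∀ n, XSurj E d n) (hi : ∀ n, XInj E d n) (q : ℕ) :
    IsColimit ((HomologicalComplex.homologyFunctor AddCommGrpCat.{v} (ComplexShape.up ℕ) q).mapCocone d) :=
  haveI : ReflectsColimitsOfShape I (CategoryTheory.forget AddCommGrpCat.{v}) :=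
    reflectsColimitsOfShape_of_reflectsIsomorphisms
  isColimitOfReflects (CategoryTheory.forget AddCommGrpCat.{v})
    (Types.FilteredColimit.isColimitOf' _ _
      (fun h => by obtain ⟨i, y, hy⟩ := homology_surj hs hi q h; exact ⟨i, y, hy.symm⟩)
      (fun _ a b hab => homology_eq_stage hs hi q a b hab))

end Complex

section Cech

open Groth.Agent.H18Cech

variable {X : Scheme.{u}} {U : X.Etale} [HasFiniteProducts (Over U)] {ι : Type (u + 1)} [Finite ι]
  (Y : ι → Over U) {I : Type w} [SmallCategory I] [IsFiltered I]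
  [PreservesColimitsOfShape I (CategoryTheory.forget AddCommGrpCat.{u + 1})]
  {D : I ⥤ EtCoh.Ab X} {c : Cocone D}

/-- The Čech complex functor on sheaves. -/
noncomputable abbrev cxF : EtCoh.Ab X ⥤ CochainComplex AddCommGrpCat.{u + 1} ℕ :=
  sheafToPresheaf X.smallEtaleTopology AddCommGrpCat.{u + 1} ⋙
    (Functor.whiskeringLeft (Over U)ᵒᵖ X.Etaleᵒᵖ AddCommGrpCat.{u + 1}).obj (Over.forget U).op ⋙
      cechComplexFunctor Y

theorem xSurj_cx (hU : QCAc.QCQS U) (hY : ∀ i, QCAc.QCQS (Y i).left) (hc : IsColimit c) (n : ℕ) :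
    XSurj (D ⋙ cxF Y) ((cxF Y).mapCocone c) n := by
  classical
  haveI := Fintype.ofFinite ι
  intro (x : C' Y c.pt.obj n)
  choose j t ht using fun a : Fin (n + 1) → ι =>
    haveI := (QCAc.qcqs_prod Y hU hY n a).1
    haveI := (QCAc.qcqs_prod Y hU hY n a).2
    Cons.sect_colim_surj (c := c) hc (U := (∏ᶜ (Y ∘ a)).left) ((Pi.π (val Y c.pt.obj n) a).hom x)
  obtain ⟨j₀, hj₀⟩ := IsFiltered.sup_objs_exists (Finset.univ.image j)
  let g : ∀ a, j a ⟶ j₀ := fun a => (hj₀ (Finset.mem_image_of_mem j (Finset.mem_univ a))).some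
  let x₀ : C' Y (D.obj j₀).obj n :=
    (Concrete.productEquiv (val Y (D.obj j₀).obj n)).symm fun a => (D.map (g a)).hom.app _ (t a)
  refine ⟨j₀, x₀, ?_⟩
  apply (Concrete.productEquiv (val Y c.pt.obj n)).injective
  funext a
  rw [Concrete.productEquiv_apply_apply, Concrete.productEquiv_apply_apply]
  refine (π_mapC Y (c.ι.app j₀).hom x₀ a).trans ?_
  refine (congrArg _ (Concrete.productEquiv_symm_apply_π (val Y (D.obj j₀).obj n) _ a)).trans ?_
  exact (ConcreteCategory.congr_hom
    (congrArg (fun φ : D.obj (j a) ⟶ c.pt => φ.hom.app (op (∏ᶜ (Y ∘ a)).left)) (c.w (g a))) (t a)).trans (ht a)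

theorem xInj_cx (hU : QCAc.QCQS U) (hY : ∀ i, QCAc.QCQS (Y i).left) (hc : IsColimit c) (n : ℕ) :
    XInj (D ⋙ cxF Y) ((cxF Y).mapCocone c) n := by
  intro i (x : C' Y (D.obj i).obj n) hx
  have hex : ∀ a : Fin (n + 1) → ι, ∃ (k : I) (f : i ⟶ k), (D.map f).hom.app _
      ((Pi.π (val Y (D.obj i).obj n) a).hom x) = 0 := fun a => by
    haveI := (QCAc.qcqs_prod Y hU hY n a).1
    refine Cons.sect_colim_inj (c := c) hc _ ?_
    refine (π_mapC Y (c.ι.app i).hom _ a).symm.trans ?_
    exact (congrArg (Pi.π (val Y c.pt.obj n) a).hom hx).trans (map_zero _)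
  obtain ⟨k, f, hf⟩ := Cons.exists_common_stage _ hex fun a k l f g e => by
    rw [D.map_comp]
    exact (congrArg ((D.map g).hom.app _) e).trans (map_zero _)
  refine ⟨k, f, ?_⟩
  apply (Concrete.productEquiv (val Y (D.obj k).obj n)).injective
  funext a
  rw [Concrete.productEquiv_apply_apply, Concrete.productEquiv_apply_apply]
  exact ((π_mapC Y (D.map f).hom x a).trans (hf a)).trans (map_zero (Pi.π (val Y (D.obj k).obj n) a).hom).symm

/-- Čech cohomology of a finite qcqs family commutes with filtered colimits. -/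
theorem preservesColimitsOfShape_cechH [HasColimitsOfShape I AddCommGrpCat.{u + 1}]
    (hU : QCAc.QCQS U) (hY : ∀ i, QCAc.QCQS (Y i).left) (q : ℕ) :
    PreservesColimitsOfShape I
      (sheafToPresheaf X.smallEtaleTopology AddCommGrpCat.{u + 1} ⋙ EtCech.cechHFunctor Y q) :=
  ⟨fun {D} => ⟨fun {c} hc => ⟨isColimitHomology (E := D ⋙ cxF Y) (d := (cxF Y).mapCocone c)
    (xSurj_cx Y hU hY hc) (xInj_cx Y hU hY hc) q⟩⟩⟩

end Cech

end Groth.Agent.H18Et.CechColim
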