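import Groth.Agent.H18Et.Cons.SectColim
import Groth.Agent.H18Et.StalkSets

/-!
# Sections of sheaves of sets over qcqs objects commute with filtered colimits
-/

set_option backward.isDefEq.respectTransparency false
set_option backward.isDefEq.respectTransparency.types false

universe u w

open CategoryTheory CategoryTheory.Limits AlgebraicGeometry Opposite

namespace Groth.Agent.H18Et.SetsColim

open scoped Groth.Agent.H18Et

variable {X : Scheme.{u}} {J : Type w} [SmallCategory J] [IsFiltered J]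
  {D : J ⥤ Sheaf X.smallEtaleTopology (Type (u + 1))} {c : Cocone D}
  [PreservesColimitsOfShape J (CategoryTheory.forget (Type (u + 1)))]

/-- Sections of a sheaf of sets. -/
abbrev S (F : Sheaf X.smallEtaleTopology (Type (u + 1))) (U : X.Etale) : Type (u + 1) := F.obj.obj (op U)

omit [IsFiltered J] in
/-- Stalks commute with colimits. -/
noncomputable def isColimitStalk (hc : IsColimit c) {Ω : Type u} [Field Ω] [IsSepClosed Ω]
    (ξ : Spec (CommRingCat.of Ω) ⟶ X) :
    IsColimit (((Scheme.pointSmallEtale ξ).sheafFiber (A := Type (u + 1))).mapCocone c) :=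
  haveI := ((Scheme.pointSmallEtale ξ).skyscraperSheafAdjunction
    (A := Type (u + 1))).leftAdjoint_preservesColimits
  isColimitOfPreserves _ hc

/-- Sections agreeing in a filtered colimit agree at some stage. -/
theorem sect_colim_inj (hc : IsColimit c) {U : X.Etale} [CompactSpace U.left] {j : J}
    (s t : S (D.obj j) U) (h : (c.ι.app j).hom.app (op U) s = (c.ι.app j).hom.app (op U) t) :
    ∃ (k : J) (f : j ⟶ k), (D.map f).hom.app (op U) s = (D.map f).hom.app (op U) t := by
  let Agree : (Σ k, j ⟶ k) → (Σ V : X.Etale, V ⟶ U) → Prop := fun p q =>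
    (D.obj p.1).obj.map q.2.op ((D.map p.2).hom.app (op U) s) =
      (D.obj p.1).obj.map q.2.op ((D.map p.2).hom.app (op U) t)
  let Z : (Σ k, j ⟶ k) → Set U.left := fun p => ⋃ q ∈ {q | Agree p q}, Set.range q.2.left.base
  have hZ : ∀ p, IsOpen (Z p) := fun p => isOpen_biUnion fun q _ =>
    haveI := etale_left q.2
    q.2.left.isOpenMap.isOpen_range
  have hcov : ∀ u : U.left, ∃ p, u ∈ Z p := by
    intro u
    obtain ⟨z, hz⟩ := exists_fiber_over u (geomPt (U.hom.base u)) (geomPt_base _)
    have h0 : (((Scheme.pointSmallEtale _).sheafFiber).mapCocone c).ι.app j (germ _ (D.obj j) U z s) =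
        (((Scheme.pointSmallEtale _).sheafFiber).mapCocone c).ι.app j (germ _ (D.obj j) U z t) :=
      (germ_naturality _ (c.ι.app j) U z s).trans ((congrArg _ h).trans
        (germ_naturality _ (c.ι.app j) U z t).symm)
    obtain ⟨k, f, hfg⟩ := (Types.FilteredColimit.isColimit_eq_iff' (isColimitStalk hc _) _ _).1 h0
    obtain ⟨V, g, y, hy, he⟩ := (germ_eq_iff _ (D.obj k) U z _ _).1
      ((germ_naturality _ (D.map f) U z s).symm.trans (hfg.trans (germ_naturality _ (D.map f) U z t)))
    exact ⟨⟨k, f⟩, Set.mem_biUnion (x := (⟨V, g⟩ : Σ V : X.Etale, V ⟶ U)) he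
      ⟨ptOf y, (ptOf_map g y).trans ((congrArg ptOf hy).trans hz)⟩⟩
  obtain ⟨T, hT⟩ := (isCompact_univ (X := U.left)).elim_finite_subcover Z hZ
    fun u _ => Set.mem_iUnion.2 (hcov u)
  obtain ⟨k, f, hk⟩ := Cons.exists_common_stage (κ := T) (fun p k f => ∀ q, Agree p.1 q → Agree ⟨k, f⟩ q)
    (fun p => ⟨p.1.1, p.1.2, fun q hq => hq⟩) (fun p k l f g hp q hq => by
      have h1 := congrArg ((D.map g).hom.app (op q.1)) (hp q hq)
      change (D.obj l).obj.map q.2.op ((D.map (f ≫ g)).hom.app (op U) s) =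
        (D.obj l).obj.map q.2.op ((D.map (f ≫ g)).hom.app (op U) t)
      rw [D.map_comp]
      exact (NatTrans.naturality_apply (D.map g).hom q.2.op _).symm.trans (h1.trans
        (NatTrans.naturality_apply (D.map g).hom q.2.op _)))
  refine ⟨k, f, sect_ext (A := Type (u + 1)) (F := D.obj k) (U := U) _ _ fun Ω _ _ ξ z => ?_⟩
  obtain ⟨p, hp, hup⟩ := Set.mem_iUnion₂.1 (hT (Set.mem_univ (ptOf z)))
  obtain ⟨q, hq, v, hv⟩ := Set.mem_iUnion₂.1 hup
  obtain ⟨y, hy⟩ := exists_fiber_lift q.2 z v hv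
  exact (germ_eq_iff _ (D.obj k) U z _ _).2 ⟨q.1, q.2, y, hy, hk ⟨p, hp⟩ q hq⟩

/-- A section of a filtered colimit is near every point a section at some stage. -/
theorem sect_colim_local (hc : IsColimit c) {U : X.Etale} (s : S c.pt U) (u : U.left) :
    ∃ (P : X.Etale) (_ : IsAffine P.left) (π : P ⟶ U) (j : J) (t : S (D.obj j) P),
      u ∈ Set.range π.left.base ∧ (c.ι.app j).hom.app (op P) t = c.pt.obj.map π.op s := by
  obtain ⟨z, hz⟩ := exists_fiber_over u (geomPt (U.hom.base u)) (geomPt_base _)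
  obtain ⟨j, p, hp⟩ := Types.jointly_surjective_of_isColimit (isColimitStalk hc _)
    (germ _ c.pt U z s)
  obtain ⟨V, y, t, rfl⟩ := germ_surjective _ (D.obj j) p
  obtain ⟨Z, a, b, w, hb, he⟩ := germ_eq_germ _ c.pt z y s ((c.ι.app j).hom.app (op V) t)
    ((germ_naturality _ (c.ι.app j) V y t).symm.trans hp)
  obtain ⟨B, hB, hwB, -⟩ := exists_isAffineOpen_mem_and_subset (X := Z.left) (x := ptOf w) (U := ⊤) trivial
  haveI : Etale Z.hom := Z.prop
  let P : X.Etale := MorphismProperty.Over.mk ⊤ (B.ι ≫ Z.hom) (inferInstanceAs (Etale _))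
  let i : P ⟶ Z := MorphismProperty.Over.homMk B.ι rfl trivial
  refine ⟨P, hB, i ≫ b, j, (D.obj j).obj.map (i ≫ a).op t, ⟨⟨ptOf w, hwB⟩, ?_⟩, ?_⟩
  · exact ((ptOf_map b w).trans (congrArg ptOf hb)).trans hz
  · refine (NatTrans.naturality_apply (c.ι.app j).hom (i ≫ a).op t).trans ?_
    rw [op_comp, op_comp, Functor.map_comp_apply, Functor.map_comp_apply]
    exact congrArg _ he

/-- A section of a filtered colimit over a qcqs object comes from some stage. -/
theorem sect_colim_surj (hc : IsColimit c) {U : X.Etale} [CompactSpace U.left]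
    [QuasiSeparatedSpace U.left] (s : S c.pt U) :
    ∃ (j : J) (t : S (D.obj j) U), (c.ι.app j).hom.app (op U) t = s := by
  classical
  choose P hP π j t hu ht using sect_colim_local hc s
  obtain ⟨K, hK⟩ := (isCompact_univ (X := U.left)).elim_finite_subcover
    (fun u => Set.range (π u).left.base)
    (fun u => haveI := etale_left (π u); (π u).left.isOpenMap.isOpen_range)
    fun u _ => Set.mem_iUnion.2 ⟨u, hu u⟩
  obtain ⟨j₀, hj₀⟩ := IsFiltered.sup_objs_exists (K.image j)
  let g : ∀ p : K, j p.1 ⟶ j₀ := fun p => (hj₀ (Finset.mem_image_of_mem j p.2)).some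
  let t₀ : ∀ p : K, S (D.obj j₀) (P p.1) := fun p => (D.map (g p)).hom.app _ (t p.1)
  have ht₀ : ∀ p : K, (c.ι.app j₀).hom.app _ (t₀ p) = c.pt.obj.map (π p.1).op s := fun p =>
    (ConcreteCategory.congr_hom
      (congrArg (fun φ : D.obj (j p.1) ⟶ c.pt => φ.hom.app (op (P p.1))) (c.w (g p))) (t p.1)).trans
      (ht p.1)
  haveI : ∀ u : U.left, Etale (P u).hom := fun u => (P u).prop
  haveI : ∀ u : U.left, Etale (π u).left := fun u => etale_left (π u)
  haveI : ∀ u : U.left, IsAffine (P u).left := hP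
  haveI : ∀ u : U.left, QuasiCompact (π u).left := fun u => quasiCompact_of_compactSpace _
  let Q : K × K → X.Etale := fun p =>
    MorphismProperty.Over.mk ⊤ (pullback.fst (π p.1.1).left (π p.2.1).left ≫ (P p.1.1).hom)
      (inferInstanceAs (Etale _))
  let q₁ : ∀ p : K × K, Q p ⟶ P p.1.1 := fun p =>
    MorphismProperty.Over.homMk (pullback.fst (π p.1.1).left (π p.2.1).left) rfl trivial
  let q₂ : ∀ p : K × K, Q p ⟶ P p.2.1 := fun p =>
    MorphismProperty.Over.homMk (pullback.snd (π p.1.1).left (π p.2.1).left) (by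
      have h1 := Over.w (π p.1.1).hom
      have h2 := Over.w (π p.2.1).hom
      exact (congrArg (pullback.snd _ _ ≫ ·) h2.symm).trans
        ((pullback.condition_assoc _).symm.trans (congrArg (pullback.fst _ _ ≫ ·) h1))) trivial
  have hq : ∀ p, q₁ p ≫ π p.1.1 = q₂ p ≫ π p.2.1 := fun p =>
    (Scheme.Etale.forget _).map_injective (Over.OverMorphism.ext pullback.condition)
  have hQ : ∀ p, CompactSpace (Q p).left := fun p =>
    QuasiCompact.compactSpace_of_compactSpace (pullback.fst (π p.1.1).left (π p.2.1).left)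
  have hex : ∀ p : K × K, ∃ (k : J) (f : j₀ ⟶ k),
      (D.map f).hom.app _ ((D.obj j₀).obj.map (q₁ p).op (t₀ p.1)) =
        (D.map f).hom.app _ ((D.obj j₀).obj.map (q₂ p).op (t₀ p.2)) := by
    intro p
    haveI := hQ p
    refine sect_colim_inj hc _ _ ((NatTrans.naturality_apply (c.ι.app j₀).hom (q₁ p).op (t₀ p.1)).trans
      (Eq.trans ?_ (NatTrans.naturality_apply (c.ι.app j₀).hom (q₂ p).op (t₀ p.2)).symm))
    rw [ht₀, ht₀]
    exact ((Functor.map_comp_apply c.pt.obj (π p.1.1).op (q₁ p).op s).symm.trans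
      (congrArg (fun e => c.pt.obj.map e.op s) (hq p))).trans
      (Functor.map_comp_apply c.pt.obj (π p.2.1).op (q₂ p).op s)
  obtain ⟨k, f, hf⟩ := Cons.exists_common_stage _ hex fun p k l f g e => by
    rw [D.map_comp]
    exact congrArg ((D.map g).hom.app _) e
  let r : ∀ p : K, ToType ((D.obj k).obj.obj (op (P p.1))) := fun p => (D.map f).hom.app _ (t₀ p)
  have hgen : Sieve.generate (Presieve.ofArrows (fun p : K => P p.1) (fun p => π p.1)) ∈
      X.smallEtaleTopology U := by
    refine mem_topology_of_forall_point _ fun x => ?_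
    obtain ⟨u, huK, v, hv⟩ := Set.mem_iUnion₂.1 (hK (Set.mem_univ x))
    exact ⟨P u, π u, v, ⟨_, 𝟙 _, π u, Presieve.ofArrows.mk (⟨u, huK⟩ : K), Category.id_comp _⟩, hv⟩
  have hsheaf : ∀ G : Sheaf X.smallEtaleTopology (Type (u + 1)), Presieve.IsSheafFor G.obj
      (Presieve.ofArrows (fun p : K => P p.1) (fun p => π p.1)) := fun G => by
    rw [Presieve.isSheafFor_iff_generate]
    exact ((isSheaf_iff_isSheaf_of_type _ _).1 G.property) _ hgen
  have hcomp : Presieve.Arrows.Compatible (D.obj k).obj (fun p : K => π p.1) r := by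
    intro a b Z ga gb hZ
    let l : Z ⟶ Q (a, b) := MorphismProperty.Over.homMk
      (pullback.lift ga.left gb.left (congrArg (fun e => e.left) hZ)) (by
        exact (pullback.lift_fst_assoc _ _ _ _).trans (Over.w ga.hom)) trivial
    have h1 : l ≫ q₁ (a, b) = ga :=
      (Scheme.Etale.forget _).map_injective (Over.OverMorphism.ext (pullback.lift_fst _ _ _))
    have h2 : l ≫ q₂ (a, b) = gb :=
      (Scheme.Etale.forget _).map_injective (Over.OverMorphism.ext (pullback.lift_snd _ _ _))
    change (D.obj k).obj.map ga.op (r a) = (D.obj k).obj.map gb.op (r b)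
    rw [← h1, ← h2, op_comp, op_comp, Functor.map_comp_apply, Functor.map_comp_apply]
    refine congrArg _ ?_
    exact (NatTrans.naturality_apply (D.map f).hom (q₁ (a, b)).op (t₀ a)).symm.trans ((hf (a, b)).trans
      (NatTrans.naturality_apply (D.map f).hom (q₂ (a, b)).op (t₀ b)))
  obtain ⟨x, hx, -⟩ := (Presieve.isSheafFor_arrows_iff _ _).1 (hsheaf (D.obj k)) r hcomp
  refine ⟨k, x, (hsheaf c.pt).isSeparatedFor.ext fun Y φ hφ => ?_⟩
  obtain ⟨p⟩ := hφ
  change c.pt.obj.map (π p.1).op _ = c.pt.obj.map (π p.1).op s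
  refine (NatTrans.naturality_apply (c.ι.app k).hom (π p.1).op x).symm.trans ?_
  refine (congrArg _ (hx p)).trans ?_
  exact (ConcreteCategory.congr_hom
      (congrArg (fun φ : D.obj j₀ ⟶ c.pt => φ.hom.app (op (P p.1))) (c.w f)) (t₀ p)).trans
    (ht₀ p)

/-- Sections over a qcqs object commute with filtered colimits of sheaves of sets. -/
theorem preservesColimitsOfShape_sections (U : X.Etale) [CompactSpace U.left] [QuasiSeparatedSpace U.left] :
    PreservesColimitsOfShape J (sheafToPresheaf X.smallEtaleTopology (Type (u + 1)) ⋙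
      (evaluation X.Etaleᵒᵖ (Type (u + 1))).obj (op U)) :=
  ⟨fun {D} => ⟨fun {c} hc => ⟨Types.FilteredColimit.isColimitOf' _ _
    (fun x => by obtain ⟨j, t, ht⟩ := sect_colim_surj hc x; exact ⟨j, t, ht.symm⟩)
    fun i a b hab => sect_colim_inj hc a b hab⟩⟩⟩

end Groth.Agent.H18Et.SetsColim
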